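import Mathlib
import Cfsg.Agent.Lib.ChevAut.Exotic
import Cfsg.Agent.Lib.ChevGraph
import Cfsg.Agent.Lib.Chev.RelB2
import Cfsg.Agent.Lib.Chev.RootB2
import Cfsg.Agent.Lib.Chev.RelG2
import Cfsg.Agent.Lib.Chev.RootG2
import Cfsg.Agent.Lib.Chev.RelF4
import Cfsg.Agent.Lib.Chev.RootF4

/-!
# The tables of the exceptional graph automorphisms
-/

set_option autoImplicit false

namespace Cfsg.Agent.Lib.ChevAut.Exotic

open Cfsg Cfsg.Lie Matrix Cfsg.Agent.Lib.Chev Cfsg.Agent.Lib.Chev.Graph

noncomputable def tabB2 : ExoTab where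
  p := 2
  inI := nth false [true, false, false, true, true, false, false, true, true, false]
  sg := nth 1000 [1, 0, 0, 2, 5, 0, 0, 6, 9, 0]
  ta := nth 1000 [0, 0, 3, 0, 0, 4, 7, 0, 0, 8]
  rh := nth 0 [1, 0]
  la := nth 1 [2, 1]

theorem bijB2 : checkBij tabB2 (chevB2.rank + chevB2.nroots) = true := by decide +kernel
theorem invB2 : checkInv TabB2.T chevB2 tabB2 = true := by decide +kernel
theorem relB2 : checkRel TabB2.T chevB2 tabB2 = true := by decide +kernel
theorem shortB2 : ∃ i < chevB2.rank, tabB2.inI (chevB2.rank + chevB2.simple i) = true ∧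
    tabB2.inI (chevB2.rank + chevB2.neg (chevB2.simple i)) = true := by decide +kernel
theorem longB2 : ∃ i < chevB2.rank, tabB2.inI (chevB2.rank + chevB2.simple i) = false ∧
    tabB2.inI (chevB2.rank + chevB2.neg (chevB2.simple i)) = false := by decide +kernel
theorem rhltB2 : ∀ i < chevB2.rank, tabB2.rh i < chevB2.rank := by decide +kernel
theorem rhsurjB2 : ∀ j < chevB2.rank, ∃ i < chevB2.rank, tabB2.rh i = j ∧ (tabB2.la i = 1 ∨ tabB2.la i = 2) := by decide +kernel

noncomputable def tabG2 : ExoTab where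
  p := 3
  inI := nth false [true, false, false, false, true, true, true, false, false, true, true, true, false, false]
  sg := nth 1000 [1, 0, 0, 0, 2, 3, 7, 0, 0, 8, 12, 13, 0, 0]
  ta := nth 1000 [0, 0, 4, 5, 0, 0, 0, 6, 9, 0, 0, 0, 10, 11]
  rh := nth 0 [1, 0]
  la := nth 1 [3, 1]

theorem bijG2 : checkBij tabG2 (chevG2.rank + chevG2.nroots) = true := by decide +kernel
theorem invG2 : checkInv TabG2.T chevG2 tabG2 = true := by decide +kernel
theorem relG2 : checkRel TabG2.T chevG2 tabG2 = true := by decide +kernel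
theorem shortG2 : ∃ i < chevG2.rank, tabG2.inI (chevG2.rank + chevG2.simple i) = true ∧
    tabG2.inI (chevG2.rank + chevG2.neg (chevG2.simple i)) = true := by decide +kernel
theorem longG2 : ∃ i < chevG2.rank, tabG2.inI (chevG2.rank + chevG2.simple i) = false ∧
    tabG2.inI (chevG2.rank + chevG2.neg (chevG2.simple i)) = false := by decide +kernel
theorem rhltG2 : ∀ i < chevG2.rank, tabG2.rh i < chevG2.rank := by decide +kernel
theorem rhsurjG2 : ∀ j < chevG2.rank, ∃ i < chevG2.rank, tabG2.rh i = j ∧ (tabG2.la i = 1 ∨ tabG2.la i = 3) := by decide +kernel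

noncomputable def tabF4 : ExoTab where
  p := 2
  inI := nth false [true, true, false, false, false, false, false, true, false, false, false, true, true, true, true, true, true, true, true, false, false, false, true, true, true, false, false, false, false, false, false, true, true, true, false, false, false, true, true, true, true, true, true, true, true, false, false, false, true, false, false, false]
  sg := nth 1000 [3, 2, 0, 0, 0, 0, 0, 4, 0, 0, 0, 5, 6, 8, 19, 9, 20, 25, 27, 0, 0, 0, 10, 21, 26, 0, 0, 0, 0, 0, 0, 29, 34, 45, 0, 0, 0, 28, 30, 35, 46, 36, 47, 49, 50, 0, 0, 0, 51, 0, 0, 0]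
  ta := nth 1000 [0, 0, 1, 0, 7, 11, 12, 0, 13, 15, 22, 0, 0, 0, 0, 0, 0, 0, 0, 14, 16, 23, 0, 0, 0, 17, 24, 18, 37, 31, 38, 0, 0, 0, 32, 39, 41, 0, 0, 0, 0, 0, 0, 0, 0, 33, 40, 42, 0, 43, 44, 48]
  rh := nth 0 [3, 2, 1, 0]
  la := nth 1 [2, 2, 1, 1]

theorem bijF4 : checkBij tabF4 (chevF4.rank + chevF4.nroots) = true := by decide +kernel
theorem invF4 : checkInv TabF4.T chevF4 tabF4 = true := by decide +kernel
theorem relF4 : checkRel TabF4.T chevF4 tabF4 = true := by decide +kernel
theorem shortF4 : ∃ i < chevF4.rank, tabF4.inI (chevF4.rank + chevF4.simple i) = true ∧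
    tabF4.inI (chevF4.rank + chevF4.neg (chevF4.simple i)) = true := by decide +kernel
theorem longF4 : ∃ i < chevF4.rank, tabF4.inI (chevF4.rank + chevF4.simple i) = false ∧
    tabF4.inI (chevF4.rank + chevF4.neg (chevF4.simple i)) = false := by decide +kernel
theorem rhltF4 : ∀ i < chevF4.rank, tabF4.rh i < chevF4.rank := by decide +kernel
theorem rhsurjF4 : ∀ j < chevF4.rank, ∃ i < chevF4.rank, tabF4.rh i = j ∧ (tabF4.la i = 1 ∨ tabF4.la i = 2) := by decide +kernel

/-- The permutation of the roots of the exceptional graph automorphism of `B2`. -/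
noncomputable def rbarB2 : ℕ → ℕ := nth 1000 [1, 0, 3, 2, 5, 4, 7, 6]
/-- The exponents of the exceptional graph automorphism of `B2`: `p` on short roots and `1` on long roots. -/
noncomputable def lamB2 : ℕ → ℕ := nth 1 [1, 2, 2, 1, 1, 2, 2, 1]

theorem relAllB2 : checkRelAll TabB2.T tabB2 rbarB2 lamB2 = true := by decide +kernel
theorem rbar_ltB2 : ∀ r < chevB2.nroots, rbarB2 r < chevB2.nroots := by decide +kernel
theorem rbar_injB2 : ∀ r < chevB2.nroots, ∀ s < chevB2.nroots, rbarB2 r = rbarB2 s → r = s := by decide +kernel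
theorem rbar_negB2 : ∀ r < chevB2.nroots, rbarB2 (chevB2.neg r) = chevB2.neg (rbarB2 r) := by decide +kernel
theorem rbar_simpleB2 : ∀ i < chevB2.rank, rbarB2 (chevB2.simple i) = chevB2.simple (tabB2.rh i) := by decide +kernel
theorem lam_shortB2 : ∀ r < chevB2.nroots, chevB2.isLong r = false → lamB2 r = 2 := by decide +kernel
theorem lam_longB2 : ∀ r < chevB2.nroots, chevB2.isLong r = true → lamB2 r = 1 := by decide +kernel
theorem la_eqB2 : ∀ i < chevB2.rank, tabB2.la i = lamB2 (chevB2.simple i) := by decide +kernel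
theorem rbar_rbarB2 : ∀ r < chevB2.nroots, rbarB2 (rbarB2 r) = r := by decide +kernel
theorem lam_rbarB2 : ∀ r < chevB2.nroots, lamB2 r * lamB2 (rbarB2 r) = 2 := by decide +kernel

/-- The exceptional graph automorphism of `B2` in characteristic `2`, on all root elements. -/
theorem exists_autB2 {K : Type*} [Field K] [CharP K 2] (hperf : ∀ x : K, ∃ y : K, y ^ 2 = x) :
    ∃ α : ↥(chevB2.group K) ≃* ↥(chevB2.group K), ∀ (g : ↥(chevB2.group K)) (r : ℕ) (t : K), r < chevB2.nroots →
      ((g : GL chevB2.Idx K) : Matrix chevB2.Idx chevB2.Idx K) = chevB2.x K r t →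
        ((α g : GL chevB2.Idx K) : Matrix chevB2.Idx chevB2.Idx K) = chevB2.x K (rbarB2 r) (t ^ lamB2 r) := by
  haveI : CharP K tabB2.p := ‹CharP K 2›
  exact aut_of_tab_all (E := tabB2)
    (⟨RelB2.checks, RootB2.checks⟩ : Full _ _ _ chevB2) connB2 hperf
    bijB2 invB2 relB2 shortB2 longB2 rhltB2 rhsurjB2 _ _ rbar_ltB2 relAllB2

/-- The permutation of the roots of the exceptional graph automorphism of `G2`. -/
noncomputable def rbarG2 : ℕ → ℕ := nth 1000 [2, 3, 0, 1, 5, 4, 7, 6, 10, 11, 8, 9]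
/-- The exponents of the exceptional graph automorphism of `G2`: `p` on short roots and `1` on long roots. -/
noncomputable def lamG2 : ℕ → ℕ := nth 1 [1, 1, 3, 3, 3, 1, 1, 3, 3, 3, 1, 1]

theorem relAllG2 : checkRelAll TabG2.T tabG2 rbarG2 lamG2 = true := by decide +kernel
theorem rbar_ltG2 : ∀ r < chevG2.nroots, rbarG2 r < chevG2.nroots := by decide +kernel
theorem rbar_injG2 : ∀ r < chevG2.nroots, ∀ s < chevG2.nroots, rbarG2 r = rbarG2 s → r = s := by decide +kernel
theorem rbar_negG2 : ∀ r < chevG2.nroots, rbarG2 (chevG2.neg r) = chevG2.neg (rbarG2 r) := by decide +kernel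
theorem rbar_simpleG2 : ∀ i < chevG2.rank, rbarG2 (chevG2.simple i) = chevG2.simple (tabG2.rh i) := by decide +kernel
theorem lam_shortG2 : ∀ r < chevG2.nroots, chevG2.isLong r = false → lamG2 r = 3 := by decide +kernel
theorem lam_longG2 : ∀ r < chevG2.nroots, chevG2.isLong r = true → lamG2 r = 1 := by decide +kernel
theorem la_eqG2 : ∀ i < chevG2.rank, tabG2.la i = lamG2 (chevG2.simple i) := by decide +kernel
theorem rbar_rbarG2 : ∀ r < chevG2.nroots, rbarG2 (rbarG2 r) = r := by decide +kernel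
theorem lam_rbarG2 : ∀ r < chevG2.nroots, lamG2 r * lamG2 (rbarG2 r) = 3 := by decide +kernel

/-- The exceptional graph automorphism of `G2` in characteristic `3`, on all root elements. -/
theorem exists_autG2 {K : Type*} [Field K] [CharP K 3] (hperf : ∀ x : K, ∃ y : K, y ^ 3 = x) :
    ∃ α : ↥(chevG2.group K) ≃* ↥(chevG2.group K), ∀ (g : ↥(chevG2.group K)) (r : ℕ) (t : K), r < chevG2.nroots →
      ((g : GL chevG2.Idx K) : Matrix chevG2.Idx chevG2.Idx K) = chevG2.x K r t →
        ((α g : GL chevG2.Idx K) : Matrix chevG2.Idx chevG2.Idx K) = chevG2.x K (rbarG2 r) (t ^ lamG2 r) := by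
  haveI : CharP K tabG2.p := ‹CharP K 3›
  exact aut_of_tab_all (E := tabG2)
    (⟨RelG2.checks, RootG2.checks⟩ : Full _ _ _ chevG2) connG2 hperf
    bijG2 invG2 relG2 shortG2 longG2 rhltG2 rhsurjG2 _ _ rbar_ltG2 relAllG2

/-- The permutation of the roots of the exceptional graph automorphism of `F4`. -/
noncomputable def rbarF4 : ℕ → ℕ := nth 1000 [3, 7, 8, 0, 9, 11, 18, 1, 2, 4, 15, 5, 16, 21, 23, 10, 12, 19, 6, 17, 22, 13, 20, 14, 33, 27, 34, 25, 30, 41, 28, 35, 37, 24, 26, 31, 42, 32, 43, 45, 46, 29, 36, 38, 47, 39, 40, 44]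
/-- The exponents of the exceptional graph automorphism of `F4`: `p` on short roots and `1` on long roots. -/
noncomputable def lamF4 : ℕ → ℕ := nth 1 [1, 1, 1, 2, 1, 1, 1, 2, 2, 2, 2, 2, 2, 2, 2, 1, 1, 1, 2, 2, 2, 1, 1, 1, 1, 1, 1, 2, 2, 2, 1, 1, 1, 2, 2, 2, 2, 2, 2, 2, 2, 1, 1, 1, 2, 1, 1, 1]

theorem relAllF4 : checkRelAll TabF4.T tabF4 rbarF4 lamF4 = true := by decide +kernel
theorem rbar_ltF4 : ∀ r < chevF4.nroots, rbarF4 r < chevF4.nroots := by decide +kernel
theorem rbar_injF4 : ∀ r < chevF4.nroots, ∀ s < chevF4.nroots, rbarF4 r = rbarF4 s → r = s := by decide +kernel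
theorem rbar_negF4 : ∀ r < chevF4.nroots, rbarF4 (chevF4.neg r) = chevF4.neg (rbarF4 r) := by decide +kernel
theorem rbar_simpleF4 : ∀ i < chevF4.rank, rbarF4 (chevF4.simple i) = chevF4.simple (tabF4.rh i) := by decide +kernel
theorem lam_shortF4 : ∀ r < chevF4.nroots, chevF4.isLong r = false → lamF4 r = 2 := by decide +kernel
theorem lam_longF4 : ∀ r < chevF4.nroots, chevF4.isLong r = true → lamF4 r = 1 := by decide +kernel
theorem la_eqF4 : ∀ i < chevF4.rank, tabF4.la i = lamF4 (chevF4.simple i) := by decide +kernel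
theorem rbar_rbarF4 : ∀ r < chevF4.nroots, rbarF4 (rbarF4 r) = r := by decide +kernel
theorem lam_rbarF4 : ∀ r < chevF4.nroots, lamF4 r * lamF4 (rbarF4 r) = 2 := by decide +kernel

/-- The exceptional graph automorphism of `F4` in characteristic `2`, on all root elements. -/
theorem exists_autF4 {K : Type*} [Field K] [CharP K 2] (hperf : ∀ x : K, ∃ y : K, y ^ 2 = x) :
    ∃ α : ↥(chevF4.group K) ≃* ↥(chevF4.group K), ∀ (g : ↥(chevF4.group K)) (r : ℕ) (t : K), r < chevF4.nroots →
      ((g : GL chevF4.Idx K) : Matrix chevF4.Idx chevF4.Idx K) = chevF4.x K r t →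
        ((α g : GL chevF4.Idx K) : Matrix chevF4.Idx chevF4.Idx K) = chevF4.x K (rbarF4 r) (t ^ lamF4 r) := by
  haveI : CharP K tabF4.p := ‹CharP K 2›
  exact aut_of_tab_all (E := tabF4)
    (⟨RelF4.checks, RootF4.checks⟩ : Full _ _ _ chevF4) connF4 hperf
    bijF4 invF4 relF4 shortF4 longF4 rhltF4 rhsurjF4 _ _ rbar_ltF4 relAllF4


end Cfsg.Agent.Lib.ChevAut.Exotic
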