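import Mathlib
import Cfsg.Agent.Lib.ChevSylow

/-!
# Normalising an automorphism of a Chevalley group

Any automorphism of a finite Chevalley group can be composed with an inner automorphism to preserve both `U` and `V`.
-/

set_option autoImplicit false
set_option linter.unusedSectionVars false
set_option linter.unusedVariables false
set_option linter.unnecessarySimpa false

namespace Cfsg.Agent.Lib.ChevAut

open Cfsg.Lie Matrix Cfsg.Agent.Lib.Chev Cfsg.Agent.Lib.Chev.Full Cfsg.Agent.Lib.ChevFix Cfsg.Agent.Lib.ChevFix2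
open Cfsg.Agent.Lib.BNPair
open scoped Pointwise

variable {T : Tabs} {X : Extra} {R : RootTab} {D : ChevalleyDatum}
variable {F : Type*} [Field F]

/-- An automorphism preserving `U` and `V`. -/
structure Nrm (D : ChevalleyDatum) (F : Type*) [Field F] (θ : ↥(D.group F) ≃* ↥(D.group F)) : Prop where
  u : ∀ x : ↥(D.group F), (θ x).1 ∈ D.posUnipotent F ↔ x.1 ∈ D.posUnipotent F
  v : ∀ x : ↥(D.group F), (θ x).1 ∈ D.negUnipotent F ↔ x.1 ∈ D.negUnipotent F

variable (hF : Full T X R D)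

include hF

/-- `B` is the normaliser of `U`. -/
theorem mem_borel_iff_conj (x : ↥(D.group F)) :
    x.1 ∈ D.borelSubgroup F ↔ ∀ u : ↥(D.group F), u.1 ∈ D.posUnipotent F → (x⁻¹ * u * x).1 ∈ D.posUnipotent F := by
  constructor
  · intro hx u hu
    have := conj_U_of_borel hF (Subgroup.inv_mem _ hx) hu
    simpa using this
  · intro h
    have := mem_B_of_conj hF (x := x) (fun u hu =>
      Subgroup.mem_subgroupOf.2 (hF.c.posUnipotent_le_borel (h u hu)))
    exact Subgroup.mem_subgroupOf.1 this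

/-- `U`-preserving automorphisms preserve `B`. -/
theorem map_borel {θ : ↥(D.group F) ≃* ↥(D.group F)}
    (hθ : ∀ x : ↥(D.group F), (θ x).1 ∈ D.posUnipotent F ↔ x.1 ∈ D.posUnipotent F) (x : ↥(D.group F)) :
    (θ x).1 ∈ D.borelSubgroup F ↔ x.1 ∈ D.borelSubgroup F := by
  rw [mem_borel_iff_conj hF, mem_borel_iff_conj hF]
  constructor
  · intro h u hu
    have := h (θ u) ((hθ u).2 hu)
    rw [← hθ]
    simpa [map_mul, map_inv] using this
  · intro h u hu
    obtain ⟨u', rfl⟩ := θ.surjective u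
    have := h u' ((hθ u').1 hu)
    rw [← hθ] at this
    simpa [map_mul, map_inv] using this

theorem xG_ne_one {r : ℕ} (hr : r < D.nroots) {t : F} (ht : t ≠ 0) : hF.c.xG r t ≠ 1 := by
  intro h
  have h8 := congrArg (fun g : GL D.Idx F => (g : Matrix D.Idx D.Idx F)) h
  simp only [Checks.coe_xG, Units.val_one] at h8
  exact ht ((hF.c.x_eq_one_iff hr _).1 h8)

/-- A subgroup of the form `y U y⁻¹` meeting `U` trivially is conjugate to `V` under `U`. -/
theorem exists_conj_opp {y : ↥(D.group F)}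
    (h : ∀ u : ↥(D.group F), u.1 ∈ D.posUnipotent F → (y * u * y⁻¹).1 ∈ D.posUnipotent F → u = 1) :
    ∃ w : ↥(D.group F), w.1 ∈ D.posUnipotent F ∧ ∀ x : ↥(D.group F),
      (w * x * w⁻¹).1 ∈ D.negUnipotent F ↔ (y⁻¹ * x * y).1 ∈ D.posUnipotent F := by
  classical
  obtain ⟨n, hn, hy⟩ := exists_mem_dc (P := hF.bnPair F) y
  obtain ⟨b₁, hb₁, b₂, hb₂, rfl⟩ := mem_dc.1 hy
  have hb₁' : b₁.1 ∈ D.borelSubgroup F := Subgroup.mem_subgroupOf.1 hb₁
  have hb₂' : b₂.1 ∈ D.borelSubgroup F := Subgroup.mem_subgroupOf.1 hb₂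
  have hn' : n.1 ∈ D.monomialSubgroup F := Subgroup.mem_subgroupOf.1 hn
  obtain ⟨σ, u, hact⟩ := hF.exists_rootAct hn'
  -- every positive root goes to a negative one
  have hneg : ∀ s : Fin D.nroots, R.N ≤ (s : ℕ) → ((σ s : Fin D.nroots) : ℕ) < R.N := by
    intro s hs
    by_contra hcon
    push Not at hcon
    have hcon' := hact.conj s 1
    -- `u₀ = b₂⁻¹ x_s(1) b₂`
    have hx : hF.c.xG s (1 : F) ∈ D.posUnipotent F := hF.xG_mem_U s.2 hs 1
    have hu₀ : b₂.1⁻¹ * hF.c.xG s (1 : F) * b₂.1 ∈ D.posUnipotent F := by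
      have := conj_U_of_borel hF (Subgroup.inv_mem _ hb₂') hx
      simpa using this
    let u₀ : ↥(D.group F) := ⟨b₂.1⁻¹ * hF.c.xG s (1 : F) * b₂.1, hF.c.posUnipotent_le_group hu₀⟩
    have hconj : ((b₁ * n * b₂) * u₀ * (b₁ * n * b₂)⁻¹).1 =
        b₁.1 * hF.c.xG (σ s) ((u s : F) * 1) * b₁.1⁻¹ := by
      rw [← hcon']
      simp only [Subgroup.coe_mul, Subgroup.coe_inv, u₀]
      group
    have hmem : ((b₁ * n * b₂) * u₀ * (b₁ * n * b₂)⁻¹).1 ∈ D.posUnipotent F := by
      rw [hconj]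
      exact conj_U_of_borel hF hb₁' (hF.xG_mem_U (σ s).2 hcon _)
    have h1 := h u₀ hu₀ hmem
    have h2 : b₂.1⁻¹ * hF.c.xG s (1 : F) * b₂.1 = 1 := congrArg Subtype.val h1
    have h3 : hF.c.xG s (1 : F) = 1 := by
      have : hF.c.xG s (1 : F) = b₂.1 * (b₂.1⁻¹ * hF.c.xG s (1 : F) * b₂.1) * b₂.1⁻¹ := by group
      rw [this, h2]
      simp
    exact xG_ne_one hF s.2 one_ne_zero h3
  have hiff : ∀ s : Fin D.nroots, (R.N ≤ (s : ℕ) ↔ ((σ s : Fin D.nroots) : ℕ) < R.N) := by
    intro s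
    constructor
    · exact hneg s
    · intro h1
      by_contra h2
      push Not at h2
      have h3 : R.N ≤ ((hF.negF s : Fin D.nroots) : ℕ) := hF.neg_ge_N h2
      have h4 := hneg _ h3
      rw [hact.neg_σ] at h4
      have h5 : R.N ≤ (D.neg ((σ s : Fin D.nroots) : ℕ)) := hF.neg_ge_N h1
      exact absurd h4 (by
        show ¬ (D.neg ((σ s : Fin D.nroots) : ℕ)) < R.N
        omega)
  have hmapU := hF.map_conj_U_of_act hact hiff
  -- write `b₁ = w t`
  obtain ⟨w, hw, t, ht, hb₁e⟩ := (hF.mem_borel_iff).1 hb₁'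
  have hwG : w ∈ D.group F := hF.c.posUnipotent_le_group hw
  refine ⟨⟨w, hwG⟩⁻¹, Subgroup.inv_mem _ hw, ?_⟩
  intro x
  have htN := hF.diagonal_le_normalizer_V (F := F) ht
  have key : ∀ g : GL D.Idx F, g ∈ D.negUnipotent F ↔ n.1⁻¹ * g * n.1 ∈ D.posUnipotent F := by
    intro g
    rw [← hmapU]
    constructor
    · rintro ⟨v, hv, rfl⟩
      have : n.1⁻¹ * (MulAut.conj n.1).toMonoidHom v * n.1 = v := by
        simp [MulAut.conj_apply]
        group
      rw [this]
      exact hv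
    · intro h
      refine ⟨_, h, ?_⟩
      simp [MulAut.conj_apply]
      group
  have hb₂inv := Subgroup.inv_mem _ hb₂'
  have e1 : ((b₁ * n * b₂)⁻¹ * x * (b₁ * n * b₂)).1 =
      b₂.1⁻¹ * (n.1⁻¹ * (b₁.1⁻¹ * x.1 * b₁.1) * n.1) * b₂.1 := by
    simp only [Subgroup.coe_mul, Subgroup.coe_inv]
    group
  have e2 : (((⟨w, hwG⟩ : ↥(D.group F))⁻¹ * x * ((⟨w, hwG⟩ : ↥(D.group F))⁻¹)⁻¹).1) = w⁻¹ * x.1 * w := by
    simp only [Subgroup.coe_mul, Subgroup.coe_inv, inv_inv]
  rw [e1, e2]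
  -- conjugation by `b₂`
  have hconjb : ∀ g : GL D.Idx F, b₂.1⁻¹ * g * b₂.1 ∈ D.posUnipotent F ↔ g ∈ D.posUnipotent F := by
    intro g
    constructor
    · intro h
      have := conj_U_of_borel hF hb₂' h
      simpa [mul_assoc] using this
    · intro h
      have := conj_U_of_borel hF hb₂inv h
      simpa using this
  rw [hconjb, ← key]
  -- conjugation by `t`
  have e3 : b₁.1⁻¹ * x.1 * b₁.1 = t⁻¹ * (w⁻¹ * x.1 * w) * t := by
    rw [hb₁e]
    group
  rw [e3]
  have htinv := Subgroup.inv_mem _ htN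
  have := Subgroup.mem_set_normalizer_iff.1 htinv (w⁻¹ * x.1 * w)
  rw [inv_inv] at this
  exact this

omit hF in
/-- Sylow's theorem for automorphic images. -/
theorem exists_conj_of_sylow {G : Type*} [Group G] [Finite G] {p : ℕ} [Fact p.Prime] (P : Sylow p G) (φ : G ≃* G) :
    ∃ x : G, ∀ g : G, (∃ u ∈ (P : Subgroup G), φ u = g) ↔ ∃ u ∈ (P : Subgroup G), x * u * x⁻¹ = g := by
  classical
  let φ' : MulAut G := φ
  obtain ⟨x, hx⟩ := MulAction.exists_smul_eq G P (φ' • P)
  refine ⟨x, fun g => ?_⟩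
  have h1 : (((φ' • P : Sylow p G)) : Subgroup G) = φ' • (P : Subgroup G) := rfl
  have h2 : ((x • P : Sylow p G) : Subgroup G) = MulAut.conj x • (P : Subgroup G) := Sylow.coe_subgroup_smul
  have h3 : φ' • (P : Subgroup G) = MulAut.conj x • (P : Subgroup G) := by
    rw [← h1, ← h2, hx]
  have h4 : g ∈ φ' • (P : Subgroup G) ↔ g ∈ MulAut.conj x • (P : Subgroup G) := by rw [h3]
  rw [Subgroup.mem_smul_pointwise_iff_exists, Subgroup.mem_smul_pointwise_iff_exists] at h4
  simpa [MulAut.smul_def, MulAut.conj_apply] using h4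

/-- Normalisation: for a finite field, every automorphism can be corrected by an inner automorphism. -/
theorem exists_nrm [Finite F] (θ : ↥(D.group F) ≃* ↥(D.group F)) :
    ∃ z : ↥(D.group F), Nrm D F (θ.trans (MulAut.conj z)) := by
  classical
  haveI := Fintype.ofFinite F
  obtain ⟨p, hp⟩ := CharP.exists F
  have hpp : p.Prime := by
    rcases CharP.char_is_prime_or_zero F p with h | h
    · exact h
    · subst h
      haveI := CharP.charP_to_charZero F
      exact absurd (inferInstance : Infinite F) (not_infinite_iff_finite.2 inferInstance)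
  haveI : Fact p.Prime := ⟨hpp⟩
  obtain ⟨P, hP⟩ := ChevSylow.sylow_main hF (F := F) p
  haveI : Finite ↥(D.group F) := inferInstance
  have hPmem : ∀ u : ↥(D.group F), u ∈ (P : Subgroup ↥(D.group F)) ↔ u.1 ∈ D.posUnipotent F := by
    intro u
    rw [hP, Subgroup.mem_subgroupOf]
  -- first correction
  obtain ⟨x, hx⟩ := exists_conj_of_sylow P θ
  have h1 : ∀ g : ↥(D.group F), (x⁻¹ * θ g * x).1 ∈ D.posUnipotent F ↔ g.1 ∈ D.posUnipotent F := by
    intro g
    rw [← hPmem, ← hPmem]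
    constructor
    · intro h
      obtain ⟨u, hu, e⟩ := (hx (θ g)).2 ⟨_, h, by group⟩
      rwa [← θ.injective e]
    · intro h
      obtain ⟨u, hu, e⟩ := (hx (θ g)).1 ⟨g, h, rfl⟩
      rw [← e]
      convert hu using 1
      group
  let θ₁ : ↥(D.group F) ≃* ↥(D.group F) := θ.trans (MulAut.conj x⁻¹)
  have hθ₁ : ∀ g, θ₁ g = x⁻¹ * θ g * x := by
    intro g
    show MulAut.conj x⁻¹ (θ g) = _
    simp [MulAut.conj_apply]
  have h1' : ∀ g : ↥(D.group F), (θ₁ g).1 ∈ D.posUnipotent F ↔ g.1 ∈ D.posUnipotent F := by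
    intro g
    rw [hθ₁]
    exact h1 g
  -- the opposite
  obtain ⟨n, hn, hnV⟩ := hF.exists_opp (F := F)
  have hnG : n ∈ D.group F := hF.c.monomial_le_group hn
  let nG : ↥(D.group F) := ⟨n, hnG⟩
  have hVmem : ∀ v : ↥(D.group F), v.1 ∈ D.negUnipotent F ↔ nG⁻¹ * v * nG ∈ (P : Subgroup ↥(D.group F)) := by
    intro v
    rw [hPmem, ← hnV]
    constructor
    · rintro ⟨u, hu, e⟩
      have : (nG⁻¹ * v * nG).1 = u := by
        show n⁻¹ * v.1 * n = u
        rw [← e]
        simp [MulAut.conj_apply]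
        group
      rw [this]
      exact hu
    · intro h
      refine ⟨_, h, ?_⟩
      show MulAut.conj n ((nG⁻¹ * v * nG).1) = v.1
      show n * (n⁻¹ * v.1 * n) * n⁻¹ = v.1
      group
  obtain ⟨y, hy⟩ := exists_conj_of_sylow P ((MulAut.conj nG).trans θ₁)
  -- `θ₁ V = y U y⁻¹`
  have hV : ∀ g : ↥(D.group F), g.1 ∈ D.negUnipotent F ↔ (y⁻¹ * θ₁ g * y).1 ∈ D.posUnipotent F := by
    intro g
    rw [← hPmem, hVmem]
    constructor
    · intro h
      obtain ⟨u, hu, e⟩ := (hy (θ₁ g)).1 ⟨nG⁻¹ * g * nG, h, by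
        show θ₁ (MulAut.conj nG (nG⁻¹ * g * nG)) = θ₁ g
        congr 1
        simp [MulAut.conj_apply]
        group⟩
      rw [← e]
      convert hu using 1
      group
    · intro h
      obtain ⟨u, hu, e⟩ := (hy (θ₁ g)).2 ⟨_, h, by group⟩
      have e' : θ₁ (MulAut.conj nG u) = θ₁ g := e
      have e2 := θ₁.injective e'
      rw [← e2]
      convert hu using 1
      simp [MulAut.conj_apply]
      group
  obtain ⟨w, hw, hwe⟩ := exists_conj_opp hF (y := y) (by
    intro u hu hu'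
    -- `y u y⁻¹ ∈ θ₁ V ∩ U`
    obtain ⟨g, hg⟩ := θ₁.surjective (y * u * y⁻¹)
    have hgU : g.1 ∈ D.posUnipotent F := (h1' g).1 (by rw [hg]; exact hu')
    have hgV : g.1 ∈ D.negUnipotent F := by
      rw [hV, hg]
      convert hu using 2
      group
    have h3 : g.1 ∈ D.borelSubgroup F ⊓ D.negUnipotent F := ⟨hF.c.posUnipotent_le_borel hgU, hgV⟩
    rw [hF.B_inf_V, Subgroup.mem_bot] at h3
    have h4 : g = 1 := Subtype.ext h3
    rw [h4, map_one] at hg
    have h5 : y * u * y⁻¹ = 1 := hg.symm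
    have h6 : u = y⁻¹ * (y * u * y⁻¹) * y := by group
    rw [h6, h5]
    group)
  refine ⟨w * x⁻¹, ?_, ?_⟩
  · intro g
    have e : (θ.trans (MulAut.conj (w * x⁻¹))) g = w * θ₁ g * w⁻¹ := by
      rw [hθ₁]
      show MulAut.conj (w * x⁻¹) (θ g) = _
      simp only [MulAut.conj_apply]
      group
    rw [e, ← h1' g]
    constructor
    · intro h
      have := (D.posUnipotent F).mul_mem ((D.posUnipotent F).mul_mem ((D.posUnipotent F).inv_mem hw) h) hw
      convert this using 1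
      simp only [Subgroup.coe_mul, Subgroup.coe_inv]
      group
    · intro h
      have := (D.posUnipotent F).mul_mem ((D.posUnipotent F).mul_mem hw h) ((D.posUnipotent F).inv_mem hw)
      exact this
  · intro g
    have e : (θ.trans (MulAut.conj (w * x⁻¹))) g = w * θ₁ g * w⁻¹ := by
      rw [hθ₁]
      show MulAut.conj (w * x⁻¹) (θ g) = _
      simp only [MulAut.conj_apply]
      group
    rw [e, hwe, hV]

end Cfsg.Agent.Lib.ChevAut
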