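import Mathlib
import Cfsg.Agent.Lib.ChevAut.Norm
import Cfsg.Agent.Lib.Chev.Cells
import Cfsg.Agent.Lib.Chev.Poincare
import Cfsg.Agent.Lib.Chev.WeylPerm

/-!
# A normalised automorphism permutes the fundamental root subgroups
-/

set_option autoImplicit false
set_option linter.unusedSectionVars false
set_option linter.unusedVariables false
set_option linter.unnecessarySimpa false

namespace Cfsg.Agent.Lib.ChevAut

open Cfsg.Lie Matrix Cfsg.Agent.Lib.Chev Cfsg.Agent.Lib.Chev.Full Cfsg.Agent.Lib.ChevFix Cfsg.Agent.Lib.ChevFix2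
open Cfsg.Agent.Lib.BNPair Equiv

section BN

variable {G : Type*} [Group G] (P : Cfsg.BNPair G)

/-- An automorphism preserving `B` permutes the minimal parabolics. -/
theorem exists_parabolic_map {θ : G ≃* G} (hθ : ∀ x, θ x ∈ P.B ↔ x ∈ P.B) {s : G} (hs : s ∈ P.S) :
    ∃ s' ∈ P.S, ∀ g, θ g ∈ P.parabolic {s'} ↔ g ∈ P.parabolic {s} := by
  classical
  let M : Subgroup G := (P.parabolic {s}).map θ.toMonoidHom
  have hmemM : ∀ g, θ g ∈ M ↔ g ∈ P.parabolic {s} := by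
    intro g
    constructor
    · rintro ⟨g', hg', e⟩
      have : g' = g := θ.injective e
      rwa [← this]
    · intro h
      exact ⟨g, h, rfl⟩
  have hBM : P.B ≤ M := by
    intro b hb
    obtain ⟨b', rfl⟩ := θ.surjective b
    exact (hmemM b').2 (B_le_parabolic (P := P) _ ((hθ b').1 hb))
  have hMe := eq_parabolic (P := P) hBM
  have hne : ∃ r, r ∈ P.S ∧ r ∈ M := by
    by_contra hcon
    push Not at hcon
    have h1 : {s_1 | s_1 ∈ P.S ∧ s_1 ∈ M} = (∅ : Set G) := by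
      ext r
      simp only [Set.mem_setOf_eq, Set.mem_empty_iff_false, iff_false, not_and]
      exact hcon r
    rw [h1] at hMe
    have h2 : P.parabolic (∅ : Set G) = P.B := by
      unfold Cfsg.BNPair.parabolic
      simp
    rw [h2] at hMe
    have h3 : θ s ∈ M := (hmemM s).2 (mem_parabolic_of_mem (P := P) rfl)
    rw [hMe] at h3
    exact S_not_mem_B hs ((hθ s).1 h3)
  obtain ⟨r, hrS, hrM⟩ := hne
  refine ⟨r, hrS, fun g => ?_⟩
  have hle : P.parabolic {r} ≤ M := by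
    unfold Cfsg.BNPair.parabolic
    apply sup_le hBM
    rw [Subgroup.closure_le]
    rintro x rfl
    exact hrM
  constructor
  · intro h
    exact (hmemM g).1 (hle h)
  · intro h
    -- the preimage of `P_r`
    let L : Subgroup G := (P.parabolic {r}).comap θ.toMonoidHom
    have hBL : P.B ≤ L := by
      intro b hb
      exact B_le_parabolic (P := P) _ ((hθ b).2 hb)
    obtain ⟨g₀, rfl⟩ := θ.surjective r
    have hg₀L : g₀ ∈ L := mem_parabolic_of_mem (P := P) rfl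
    have hg₀P : g₀ ∈ P.parabolic {s} := (hmemM g₀).1 hrM
    have hg₀B : g₀ ∉ P.B := fun hb => S_not_mem_B hrS ((hθ g₀).2 hb)
    have hcoe := coe_parabolic_singleton (P := P) hs
    have hg₀dc : g₀ ∈ dc P s := by
      have : g₀ ∈ (P.B : Set G) ∪ dc P s := by
        rw [← hcoe]
        exact hg₀P
      rcases this with h1 | h1
      · exact absurd h1 hg₀B
      · exact h1
    have hsL : s ∈ L := mem_of_mem_dc' hBL hg₀dc hg₀L
    have hPL : P.parabolic {s} ≤ L := by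
      unfold Cfsg.BNPair.parabolic
      apply sup_le hBL
      rw [Subgroup.closure_le]
      rintro x rfl
      exact hsL
    exact hPL h

end BN

variable {T : Tabs} {X : Extra} {R : RootTab} {D : ChevalleyDatum}
variable {F : Type*} [Field F]
variable (hF : Full T X R D)

include hF

/-- No element of `V` lies in `B n_i`. -/
theorem V_ne_B_mul_nS {i : ℕ} (hi : i < D.rank) {v b : GL D.Idx F} (hv : v ∈ D.negUnipotent F)
    (hb : b ∈ D.borelSubgroup F) : v ≠ b * hF.nS i := by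
  intro e
  obtain ⟨n, hn, hnV⟩ := hF.exists_opp (F := F)
  rw [← hnV] at hv
  obtain ⟨u, hu, hue⟩ := hv
  have hue' : v = n * u * n⁻¹ := hue.symm
  have h1 : n * u ∈ cellS D F n := ⟨1, Subgroup.one_mem _, u, hF.c.posUnipotent_le_borel hu, by simp⟩
  have h2 : n * u ∈ cellS D F (hF.nS i * n) := by
    refine ⟨b, hb, 1, Subgroup.one_mem _, ?_⟩
    have : n * u = v * n := by
      rw [hue']
      group
    rw [this, e]
    group
  have hmN : hF.nS i * n ∈ D.monomialSubgroup F := Subgroup.mul_mem _ (hF.nS_mem_monomial hi) hn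
  have h3 := hF.cell_disjoint hn hmN h1 h2
  have h4 : n⁻¹ * (hF.nS i * n) ∈ D.diagonalSubgroup F := by
    rw [← hF.B_inf_N]
    exact ⟨h3, Subgroup.mul_mem _ (Subgroup.inv_mem _ hn) hmN⟩
  have h5 := (Subgroup.mem_set_normalizer_iff.1 (hF.monomial_le_normalizer hn) _).1 h4
  have h6 : n * (n⁻¹ * (hF.nS i * n)) * n⁻¹ = hF.nS i := by group
  rw [h6] at h5
  exact hF.nS_not_mem_borel hi (hF.c.diagonal_le_borel h5)

/-- `x_{-p}(c)` lies in `B n_i B` for `c ≠ 0`. -/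
theorem xG_neg_mem_cell {i : ℕ} (hi : i < D.rank) {c : F} (hc : c ≠ 0) :
    hF.c.xG (D.neg (D.simple i)) c =
      (hF.c.xG (D.simple i) c⁻¹ * hF.c.hG (D.simple i) (-c⁻¹)) * hF.nS i * hF.c.xG (D.simple i) c⁻¹ := by
  rw [hF.xG_neg_eq _ hc, hF.c.nG_eq_hG_mul]
  unfold Full.nS
  group

theorem xG_simple_mem_B {i : ℕ} (hi : i < D.rank) (t : F) : hF.c.xG (D.simple i) t ∈ D.borelSubgroup F :=
  hF.c.posUnipotent_le_borel (hF.xG_mem_U (hF.simple_lt hi) (hF.simple_ge hi) t)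

/-- An element of `V` in `B ∪ B n_i B` is in `X_{-p_i}`. -/
theorem V_inf_parabolic {i : ℕ} (hi : i < D.rank) {v : GL D.Idx F} (hv : v ∈ D.negUnipotent F)
    (h : v ∈ D.borelSubgroup F ∨ v ∈ cellS D F (hF.nS i)) :
    ∃ t : F, v = hF.c.xG (D.neg (D.simple i)) t := by
  rcases h with h | h
  · have h3 : v ∈ D.borelSubgroup F ⊓ D.negUnipotent F := ⟨h, hv⟩
    rw [hF.B_inf_V, Subgroup.mem_bot] at h3
    exact ⟨0, by rw [h3]; simp⟩
  · obtain ⟨b₁, hb₁, b₂, hb₂, rfl⟩ := h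
    obtain ⟨b'', hb'', r, hr⟩ := hF.borel_decomp_right hi hb₂
    have hb3 : hF.nS i * b'' * (hF.nS i)⁻¹ ∈ D.borelSubgroup F := hb''.2.1
    set b₃ := b₁ * (hF.nS i * b'' * (hF.nS i)⁻¹) with hb₃
    have hb₃B : b₃ ∈ D.borelSubgroup F := Subgroup.mul_mem _ hb₁ hb3
    have hve : b₁ * hF.nS i * b₂ = b₃ * hF.nS i * hF.c.xG (D.simple i) r := by
      rw [hr, hb₃]
      group
    rw [hve] at hv ⊢
    by_cases hr0 : r = 0
    · exfalso
      rw [hr0, Checks.xG_zero, mul_one] at hv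
      exact V_ne_B_mul_nS hF hi hv hb₃B rfl
    · -- `n_i x_i(r) = b x_{-i}(r⁻¹)`
      have h1 := xG_neg_mem_cell hF hi (c := r⁻¹) (inv_ne_zero hr0)
      rw [inv_inv] at h1
      set b₄ := hF.c.xG (D.simple i) r * hF.c.hG (D.simple i) (-r) with hb₄
      have hb₄B : b₄ ∈ D.borelSubgroup F :=
        Subgroup.mul_mem _ (xG_simple_mem_B hF hi r)
          (hF.c.diagonal_le_borel (hF.c.hG_mem_diagonal (hF.simple_lt hi) (neg_ne_zero.2 hr0)))
      have h2 : hF.nS i * hF.c.xG (D.simple i) r = b₄⁻¹ * hF.c.xG (D.neg (D.simple i)) r⁻¹ := by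
        rw [h1]
        group
      have h3 : b₃ * hF.nS i * hF.c.xG (D.simple i) r = b₃ * b₄⁻¹ * hF.c.xG (D.neg (D.simple i)) r⁻¹ := by
        rw [mul_assoc, h2]
        group
      rw [h3] at hv ⊢
      have hxm : hF.c.xG (D.neg (D.simple i)) r⁻¹ ∈ D.negUnipotent F :=
        hF.xG_mem_V (hF.neg_lt_N (hF.simple_lt hi) (hF.simple_ge hi)) _
      have h4 : b₃ * b₄⁻¹ ∈ D.borelSubgroup F ⊓ D.negUnipotent F := by
        refine ⟨Subgroup.mul_mem _ hb₃B (Subgroup.inv_mem _ hb₄B), ?_⟩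
        have := Subgroup.mul_mem _ hv (Subgroup.inv_mem _ hxm)
        simpa using this
      rw [hF.B_inf_V, Subgroup.mem_bot] at h4
      exact ⟨r⁻¹, by rw [h4, one_mul]⟩

/-- The generators of `S` -/
theorem nGp_mem_S {i : ℕ} (hi : i < D.rank) : hF.nGp (F := F) hi ∈ (hF.bnPair F).S :=
  ⟨i, hi, hF.coe_nS i⟩

theorem mem_parabolic_iff_cell {i : ℕ} (hi : i < D.rank) (g : ↥(D.group F)) :
    g ∈ (hF.bnPair F).parabolic {hF.nGp hi} ↔
      g.1 ∈ D.borelSubgroup F ∨ g.1 ∈ cellS D F (hF.nS i) := by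
  have hcoe := coe_parabolic_singleton (P := hF.bnPair F) (nGp_mem_S hF (F := F) hi)
  have h1 : g ∈ (hF.bnPair F).parabolic {hF.nGp hi} ↔ g ∈ ((hF.bnPair F).B : Set ↥(D.group F)) ∪ dc (hF.bnPair F) (hF.nGp hi) := by
    rw [← hcoe]
    rfl
  rw [h1]
  apply or_congr
  · exact Subgroup.mem_subgroupOf
  · rw [mem_dc]
    constructor
    · rintro ⟨b, hb, b', hb', e⟩
      exact ⟨b.1, Subgroup.mem_subgroupOf.1 hb, b'.1, Subgroup.mem_subgroupOf.1 hb', congrArg Subtype.val e⟩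
    · rintro ⟨b, hb, b', hb', e⟩
      refine ⟨⟨b, hF.c.borel_le_group hb⟩, Subgroup.mem_subgroupOf.2 hb, ⟨b', hF.c.borel_le_group hb'⟩,
        Subgroup.mem_subgroupOf.2 hb', Subtype.ext e⟩

theorem xG_neg_mem_parabolic {i : ℕ} (hi : i < D.rank) (t : F) :
    hF.c.xG (D.neg (D.simple i)) t ∈ D.borelSubgroup F ∨
      hF.c.xG (D.neg (D.simple i)) t ∈ cellS D F (hF.nS i) := by
  by_cases ht : t = 0
  · left
    rw [ht, Checks.xG_zero]
    exact Subgroup.one_mem _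
  · right
    refine ⟨_, Subgroup.mul_mem _ (xG_simple_mem_B hF hi _)
      (hF.c.diagonal_le_borel (hF.c.hG_mem_diagonal (hF.simple_lt hi) (neg_ne_zero.2 (inv_ne_zero ht)))),
      _, xG_simple_mem_B hF hi _, xG_neg_mem_cell hF hi ht⟩

/-- A normalised automorphism sends `X_{-p_i}` to some `X_{-p_j}`. -/
theorem neg_simple_map {θ : ↥(D.group F) ≃* ↥(D.group F)} (hθ : Nrm D F θ) {i : ℕ} (hi : i < D.rank) :
    ∃ j, j < D.rank ∧ ∀ g : ↥(D.group F), (∃ t : F, g.1 = hF.c.xG (D.neg (D.simple i)) t) ↔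
      ∃ t' : F, (θ g).1 = hF.c.xG (D.neg (D.simple j)) t' := by
  have hB : ∀ x, θ x ∈ (hF.bnPair F).B ↔ x ∈ (hF.bnPair F).B := by
    intro x
    exact map_borel hF hθ.u x
  obtain ⟨s', ⟨j, hj, hs'⟩, hs⟩ := exists_parabolic_map (hF.bnPair F) hB (nGp_mem_S hF (F := F) hi)
  have hs'e : s' = hF.nGp hj := Subtype.ext ((hF.S_iff).1 hs')
  subst hs'e
  refine ⟨j, hj, fun g => ?_⟩
  constructor
  · rintro ⟨t, ht⟩
    have hgV : g.1 ∈ D.negUnipotent F := by
      rw [ht]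
      exact hF.xG_mem_V (hF.neg_lt_N (hF.simple_lt hi) (hF.simple_ge hi)) _
    have hgP : g ∈ (hF.bnPair F).parabolic {hF.nGp hi} := by
      rw [mem_parabolic_iff_cell hF hi, ht]
      exact xG_neg_mem_parabolic hF hi t
    exact V_inf_parabolic hF hj ((hθ.v g).2 hgV) ((mem_parabolic_iff_cell hF hj _).1 ((hs g).2 hgP))
  · rintro ⟨t, ht⟩
    have hgV : g.1 ∈ D.negUnipotent F := by
      rw [← hθ.v, ht]
      exact hF.xG_mem_V (hF.neg_lt_N (hF.simple_lt hj) (hF.simple_ge hj)) _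
    have hgP : g ∈ (hF.bnPair F).parabolic {hF.nGp hi} := by
      rw [← hs, mem_parabolic_iff_cell hF hj, ht]
      exact xG_neg_mem_parabolic hF hj t
    exact V_inf_parabolic hF hi hgV ((mem_parabolic_iff_cell hF hi _).1 hgP)

/-- Linearity of the Weyl group on root coefficients. -/
theorem rc_linear {σ : Perm (Fin D.nroots)} (hσ : σ ∈ hF.Wk Set.univ) :
    ∀ (r s t : Fin D.nroots) (A : ℤ), (∀ j < D.rank, R.rcAt t j = R.rcAt r j + A * R.rcAt s j) →
      ∀ j < D.rank, R.rcAt (σ t) j = R.rcAt (σ r) j + A * R.rcAt (σ s) j := by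
  refine hF.Wk_induction_left (J := Set.univ) (p := fun σ => ∀ (r s t : Fin D.nroots) (A : ℤ), (∀ j < D.rank, R.rcAt t j = R.rcAt r j + A * R.rcAt s j) →
      ∀ j < D.rank, R.rcAt (σ t) j = R.rcAt (σ r) j + A * R.rcAt (σ s) j) ?_ ?_ σ hσ
  · intro r s t A h j hj
    exact h j hj
  · intro σ k hk _ ih r s t A h j hj
    have h1 := ih r s t A h
    have hcart : ∀ a b c : Fin D.nroots, (∀ j < D.rank, R.rcAt c j = R.rcAt a j + A * R.rcAt b j) →
        D.cartan k c = D.cartan k a + A * D.cartan k b := by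
      intro a b c hc
      rw [hF.r.cartan_lin k hk c c.2, hF.r.cartan_lin k hk a a.2, hF.r.cartan_lin k hk b b.2, sumZ_eq, sumZ_eq, sumZ_eq,
        Finset.mul_sum, ← Finset.sum_add_distrib]
      apply Finset.sum_congr rfl
      intro m hm
      rw [hc m (Finset.mem_range.1 hm)]
      ring
    have h2 := hcart _ _ _ h1
    simp only [Perm.mul_apply, wPerm_apply]
    rw [hF.wf_rc hk (σ t).2 hj, hF.wf_rc hk (σ r).2 hj, hF.wf_rc hk (σ s).2 hj, h1 j hj, h2]
    split_ifs <;> ring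

theorem rc_sum_neg {r : ℕ} (hr : r < R.N) (hrn : r < D.nroots) :
    ∑ j ∈ Finset.range D.rank, R.rcAt r j ≤ -1 := by
  have hnr : D.neg r < D.nroots := hF.neg_lt hrn
  have h1 : R.N ≤ D.neg r := hF.neg_ge_N hr
  obtain ⟨j, hj, hpos⟩ := hF.exists_rc_pos hnr h1
  have h2 : ∀ k ∈ Finset.range D.rank, R.rcAt r k ≤ 0 := fun k hk => hF.rc_nonpos hr (Finset.mem_range.1 hk)
  have h3 : R.rcAt r j < 0 := by
    have := hF.rc_neg hrn hj
    rw [this] at hpos
    omega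
  have h4 : ∑ k ∈ Finset.range D.rank, R.rcAt r k ≤ R.rcAt r j := by
    have h5 : ∑ k ∈ (Finset.range D.rank).erase j, R.rcAt r k ≤ 0 :=
      Finset.sum_nonpos (fun k hk => h2 k (Finset.mem_of_mem_erase hk))
    have h6 := Finset.add_sum_erase (Finset.range D.rank) (fun k => R.rcAt r k) (Finset.mem_range.2 hj)
    omega
  omega

/-- The sum of the coefficients of a simple root. -/
theorem rc_sum_simple {i : ℕ} (hi : i < D.rank) :
    ∑ j ∈ Finset.range D.rank, R.rcAt (D.simple i) j = 1 := by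
  have h1 : ∀ j ∈ Finset.range D.rank, R.rcAt (D.simple i) j = if i = j then 1 else 0 :=
    fun j hj => hF.simple_rc hi (Finset.mem_range.1 hj)
  rw [Finset.sum_congr rfl h1, Finset.sum_ite_eq]
  simp [hi]

/-- An opposition element of the Weyl group permutes the simple roots up to sign. -/
theorem opp_simple {σ : Perm (Fin D.nroots)} (hσ : σ ∈ hF.Wk Set.univ)
    (hiff : ∀ s : Fin D.nroots, (R.N ≤ (s : ℕ) ↔ ((σ s : Fin D.nroots) : ℕ) < R.N))
    {i : ℕ} (hi : i < D.rank) :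
    ∃ k, k < D.rank ∧ ((σ (hF.negF ⟨D.simple i, hF.simple_lt hi⟩) : Fin D.nroots) : ℕ) = D.simple k := by
  classical
  set s₀ : Fin D.nroots := hF.negF ⟨D.simple i, hF.simple_lt hi⟩ with hs₀
  set q : Fin D.nroots := σ s₀ with hq
  have hs₀N : (s₀ : ℕ) < R.N := (hF.negF_lt_iff _).2 (hF.simple_ge hi)
  have hqN : R.N ≤ (q : ℕ) := by
    by_contra hcon
    have := (hiff s₀).2 (by omega)
    omega
  by_contra hcon
  push Not at hcon
  obtain ⟨j, hj, _, hA, _⟩ := hF.r.desc q q.2 hqN (fun k hk e => hcon k hk e)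
  set A := D.cartan j q with hAdef
  have hne : (q : ℕ) ≠ D.simple j := by
    intro e
    exact hcon j hj e
  have hq'N := (hF.wf_pos q.2 hqN hj hne).1
  let q' : Fin D.nroots := ⟨X.wf j q, hF.wf_lt hj q.2⟩
  let pj : Fin D.nroots := ⟨D.simple j, hF.simple_lt hj⟩
  have hlin : ∀ m < D.rank, R.rcAt q m = R.rcAt q' m + A * R.rcAt pj m := by
    intro m hm
    have h1 := hF.wf_rc hj q.2 hm
    have h2 := hF.simple_rc hj hm
    show R.rcAt q m = R.rcAt (X.wf j q) m + A * R.rcAt (D.simple j) m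
    rw [h1, h2]
    by_cases hmj : m = j
    · subst hmj
      simp [hAdef]
    · rw [if_neg hmj, if_neg (Ne.symm hmj)]
      ring
  have hσi : σ⁻¹ ∈ hF.Wk Set.univ := Subgroup.inv_mem _ hσ
  have hl2 := rc_linear hF hσi q' pj q A hlin
  have hneg : ∀ r : Fin D.nroots, R.N ≤ (r : ℕ) → ((σ⁻¹ r : Fin D.nroots) : ℕ) < R.N := by
    intro r hr
    by_contra h1
    have h2 := (hiff (σ⁻¹ r)).1 (by omega)
    have h0 : σ (σ⁻¹ r) = r := by simp
    rw [h0] at h2
    omega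
  have h3 := rc_sum_neg hF (hneg q' hq'N) (σ⁻¹ q').2
  have h4 := rc_sum_neg hF (hneg pj (hF.simple_ge hj)) (σ⁻¹ pj).2
  have h5 : σ⁻¹ q = s₀ := by
    rw [hq]
    simp
  have h6 : ∑ m ∈ Finset.range D.rank, R.rcAt (σ⁻¹ q : Fin D.nroots) m = -1 := by
    rw [h5, hs₀]
    have h7 : ∀ m ∈ Finset.range D.rank, R.rcAt (hF.negF ⟨D.simple i, hF.simple_lt hi⟩ : Fin D.nroots) m
        = - R.rcAt (D.simple i) m := fun m hm => hF.rc_neg (hF.simple_lt hi) (Finset.mem_range.1 hm)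
    rw [Finset.sum_congr rfl h7, Finset.sum_neg_distrib, rc_sum_simple hF hi]
  have h8 : ∑ m ∈ Finset.range D.rank, R.rcAt (σ⁻¹ q : Fin D.nroots) m =
      ∑ m ∈ Finset.range D.rank, R.rcAt (σ⁻¹ q' : Fin D.nroots) m +
        A * ∑ m ∈ Finset.range D.rank, R.rcAt (σ⁻¹ pj : Fin D.nroots) m := by
    rw [Finset.mul_sum, ← Finset.sum_add_distrib]
    exact Finset.sum_congr rfl (fun m hm => hl2 m (Finset.mem_range.1 hm))
  rw [h6] at h8
  nlinarith

/-- A normalised automorphism sends `X_{p_i}` to some `X_{p_j}`. -/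
theorem pos_simple_map {θ : ↥(D.group F) ≃* ↥(D.group F)} (hθ : Nrm D F θ) {i : ℕ} (hi : i < D.rank) :
    ∃ j, j < D.rank ∧ ∀ g : ↥(D.group F), (∃ t : F, g.1 = hF.c.xG (D.simple i) t) ↔
      ∃ t' : F, (θ g).1 = hF.c.xG (D.simple j) t' := by
  classical
  obtain ⟨n₀, hn₀, σ₀, u₀, hact, hiff⟩ := hF.exists_opp_act (F := F)
  have hW : σ₀ ∈ hF.Wk Set.univ := by
    have h1 := hF.rhoN_mem_Wk (F := F) ⟨n₀, hn₀⟩
    rwa [hF.rhoN_eq (g := ⟨n₀, hn₀⟩) hact] at h1
  have hm₁ := hF.map_conj_U_of_act hact hiff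
  have hm₂ : (D.posUnipotent F).map (MulAut.conj n₀⁻¹).toMonoidHom = D.negUnipotent F := by
    refine hF.map_conj_U_of_act hact.inv ?_
    intro s
    have h1 := hiff (σ₀⁻¹ s)
    have h0 : σ₀ (σ₀⁻¹ s) = s := by simp
    rw [h0] at h1
    have h2 := hF.two
    have hs := s.2
    have hs' := (σ₀⁻¹ s).2
    omega
  have hU : ∀ x : GL D.Idx F, x ∈ D.posUnipotent F ↔ n₀ * x * n₀⁻¹ ∈ D.negUnipotent F := by
    intro x
    constructor
    · intro h
      rw [← hm₁]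
      exact ⟨x, h, rfl⟩
    · intro h
      rw [← hm₁] at h
      obtain ⟨u, hu, e⟩ := h
      have : u = x := by
        have e' : n₀ * u * n₀⁻¹ = n₀ * x * n₀⁻¹ := e
        simpa using e'
      rwa [← this]
  have hV : ∀ x : GL D.Idx F, x ∈ D.negUnipotent F ↔ n₀ * x * n₀⁻¹ ∈ D.posUnipotent F := by
    intro x
    constructor
    · intro h
      rw [← hm₂] at h
      obtain ⟨u, hu, e⟩ := h
      have e' : n₀⁻¹ * u * n₀⁻¹⁻¹ = x := e
      rw [← e']
      simpa [mul_assoc] using hu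
    · intro h
      rw [← hm₂]
      refine ⟨_, h, ?_⟩
      show n₀⁻¹ * (n₀ * x * n₀⁻¹) * n₀⁻¹⁻¹ = x
      group
  have hnG : n₀ ∈ D.group F := hF.c.monomial_le_group hn₀
  let nG : ↥(D.group F) := ⟨n₀, hnG⟩
  let θ' : ↥(D.group F) ≃* ↥(D.group F) :=
    (MulAut.conj nG).trans (θ.trans (MulAut.conj nG⁻¹))
  have hθ'v : ∀ x : ↥(D.group F), (θ' x).1 = n₀⁻¹ * (θ (nG * x * nG⁻¹)).1 * n₀ := by
    intro x
    simp [θ', nG, MulAut.conj_apply]
  have hθ' : Nrm D F θ' := by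
    refine ⟨fun x => ?_, fun x => ?_⟩
    · rw [hθ'v, hU x.1]
      have h1 := hθ.v (nG * x * nG⁻¹)
      have h2 : ((nG * x * nG⁻¹ : ↥(D.group F)) : GL D.Idx F) = n₀ * x.1 * n₀⁻¹ := rfl
      rw [h2] at h1
      rw [← h1]
      rw [hU]
      simp [mul_assoc]
    · rw [hθ'v, hV x.1]
      have h1 := hθ.u (nG * x * nG⁻¹)
      have h2 : ((nG * x * nG⁻¹ : ↥(D.group F)) : GL D.Idx F) = n₀ * x.1 * n₀⁻¹ := rfl
      rw [h2] at h1
      rw [← h1]
      rw [hV]
      simp [mul_assoc]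
  -- the map `k`
  choose! k hkr hk using (fun (a : ℕ) (ha : a < D.rank) => opp_simple hF hW hiff ha)
  have hinj : Set.InjOn k {a | a < D.rank} := by
    intro a ha b hb e
    have h1 := hk a ha
    rw [e, ← hk b hb] at h1
    have h2 := σ₀.injective (Fin.ext h1)
    have h3 := congrArg (fun x : Fin D.nroots => hF.negF x) h2
    simp only [hF.negF_negF] at h3
    have h4 : D.simple a = D.simple b := congrArg Fin.val h3
    exact hF.simple_inj ha hb h4
  have hsurj : ∃ a, a < D.rank ∧ k a = i := by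
    have hmaps : Set.MapsTo k (Finset.range D.rank : Set ℕ) (Finset.range D.rank : Set ℕ) :=
      fun a ha => Finset.mem_coe.2 (Finset.mem_range.2 (hkr a (Finset.mem_range.1 (Finset.mem_coe.1 ha))))
    have hinj' : Set.InjOn k (Finset.range D.rank : Set ℕ) :=
      fun a ha b hb e => hinj (Finset.mem_range.1 (Finset.mem_coe.1 ha)) (Finset.mem_range.1 (Finset.mem_coe.1 hb)) e
    have := Finset.surjOn_of_injOn_of_card_le k hmaps hinj' (le_refl _)
    obtain ⟨a, ha, e⟩ := this (Finset.mem_coe.2 (Finset.mem_range.2 hi))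
    exact ⟨a, Finset.mem_range.1 (Finset.mem_coe.1 ha), e⟩
  obtain ⟨a, ha, rfl⟩ := hsurj
  obtain ⟨b, hb, hab⟩ := neg_simple_map hF hθ' ha
  refine ⟨k b, hkr b hb, fun g => ?_⟩
  -- conjugation by `n₀` on the negative simple root groups
  have hconj : ∀ (c : ℕ) (hc : c < D.rank) (t : F), n₀ * hF.c.xG (D.neg (D.simple c)) t * n₀⁻¹ =
      hF.c.xG (D.simple (k c)) ((u₀ (hF.negF ⟨D.simple c, hF.simple_lt hc⟩) : F) * t) := by
    intro c hc t
    have h1 := hact.conj (hF.negF ⟨D.simple c, hF.simple_lt hc⟩) t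
    rw [hk c hc] at h1
    exact h1
  have hconj' : ∀ (c : ℕ) (hc : c < D.rank) (t : F), ∃ t', n₀⁻¹ * hF.c.xG (D.simple (k c)) t * n₀ =
      hF.c.xG (D.neg (D.simple c)) t' := by
    intro c hc t
    have hu := (u₀ (hF.negF ⟨D.simple c, hF.simple_lt hc⟩)).ne_zero
    refine ⟨((u₀ (hF.negF ⟨D.simple c, hF.simple_lt hc⟩) : F))⁻¹ * t, ?_⟩
    have h1 := hconj c hc (((u₀ (hF.negF ⟨D.simple c, hF.simple_lt hc⟩) : F))⁻¹ * t)
    rw [← mul_assoc, mul_inv_cancel₀ hu, one_mul] at h1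
    rw [← h1]
    group
  -- translate
  let g' : ↥(D.group F) := nG⁻¹ * g * nG
  have hg'v : g'.1 = n₀⁻¹ * g.1 * n₀ := rfl
  have hg'e : nG * g' * nG⁻¹ = g := by
    simp [g', mul_assoc]
  have h1 : (∃ t : F, g.1 = hF.c.xG (D.simple (k a)) t) ↔ ∃ t : F, g'.1 = hF.c.xG (D.neg (D.simple a)) t := by
    constructor
    · rintro ⟨t, ht⟩
      obtain ⟨t', ht'⟩ := hconj' a ha t
      exact ⟨t', by rw [hg'v, ht, ht']⟩
    · rintro ⟨t, ht⟩
      refine ⟨(u₀ (hF.negF ⟨D.simple a, hF.simple_lt ha⟩) : F) * t, ?_⟩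
      have h2 : g.1 = n₀ * g'.1 * n₀⁻¹ := by
        rw [hg'v]
        group
      rw [h2, ht, hconj a ha]
  have h2 : (∃ t : F, (θ' g').1 = hF.c.xG (D.neg (D.simple b)) t) ↔ ∃ t : F, (θ g).1 = hF.c.xG (D.simple (k b)) t := by
    have h3 : (θ' g').1 = n₀⁻¹ * (θ g).1 * n₀ := by
      rw [hθ'v, hg'e]
    constructor
    · rintro ⟨t, ht⟩
      refine ⟨(u₀ (hF.negF ⟨D.simple b, hF.simple_lt hb⟩) : F) * t, ?_⟩
      have h4 : (θ g).1 = n₀ * (θ' g').1 * n₀⁻¹ := by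
        rw [h3]
        group
      rw [h4, ht, hconj b hb]
    · rintro ⟨t, ht⟩
      obtain ⟨t', ht'⟩ := hconj' b hb t
      exact ⟨t', by rw [h3, ht, ht']⟩
  rw [h1, hab g', h2]

end Cfsg.Agent.Lib.ChevAut
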