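import Mathlib
import Cfsg.Agent.Lib.ChevAut.SimpleRoot
import Cfsg.Agent.Lib.Chev.RankOne

/-!
# Rank one relations; commutation of fundamental root elements; a characterisation of field automorphisms
-/

set_option autoImplicit false
set_option linter.unusedSectionVars false
set_option linter.unusedVariables false
set_option linter.unnecessarySimpa false

namespace Cfsg.Agent.Lib.ChevAut

open Cfsg.Lie Matrix Cfsg.Agent.Lib.Chev Cfsg.Agent.Lib.Chev.Full Cfsg.Agent.Lib.ChevFix Cfsg.Agent.Lib.ChevFix2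
open Cfsg.Agent.Lib.Chev.SL2

section Algebra

variable {F : Type*} [Field F]

/-- An additive injection `ψ` and a function `ψ'` with `ψ'(s/t²) = ψ(s)/ψ(t)²`: `ψ` is a field
automorphism up to a scalar. -/
theorem exists_ringEquiv_of_rel [Finite F] (ψ ψ' : F → F)
    (hadd : ∀ a b, ψ (a + b) = ψ a + ψ b) (hinj : Function.Injective ψ)
    (hrel : ∀ s t, t ≠ 0 → ψ' (s / t ^ 2) = ψ s / (ψ t) ^ 2) :
    ∃ (σ : F ≃+* F) (c : Fˣ), (∀ t, ψ t = (c : F) * σ t) ∧ (∀ t, ψ' t = (c⁻¹ : Fˣ) * σ t) := by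
  classical
  have h0 : ψ 0 = 0 := by
    have := hadd 0 0
    simp only [add_zero] at this
    exact left_eq_add.1 this
  have hne : ∀ t, t ≠ 0 → ψ t ≠ 0 := by
    intro t ht e
    apply ht
    apply hinj
    rw [e, h0]
  set c : F := ψ 1 with hc
  have hc0 : c ≠ 0 := hne 1 one_ne_zero
  let s' : F → F := fun t => ψ t / c
  have hs'add : ∀ a b, s' (a + b) = s' a + s' b := by
    intro a b
    simp only [s', hadd, add_div]
  have hs'inj : Function.Injective s' := by
    intro a b e
    apply hinj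
    simp only [s'] at e
    field_simp at e
    exact e
  have hs'0 : s' 0 = 0 := by simp [s', h0]
  have hs'1 : s' 1 = 1 := by simp [s', ← hc, hc0]
  have hs'ne : ∀ t, t ≠ 0 → s' t ≠ 0 := fun t ht => div_ne_zero (hne t ht) hc0
  have hψ' : ∀ s, ψ' s = ψ s / c ^ 2 := by
    intro s
    have := hrel s 1 one_ne_zero
    simpa [← hc] using this
  have hrel2 : ∀ s t, t ≠ 0 → s' (s / t ^ 2) = s' s / (s' t) ^ 2 := by
    intro s t ht
    have h1 := hrel s t ht
    rw [hψ'] at h1
    have h2 := hne t ht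
    simp only [s']
    field_simp
    field_simp at h1
    rw [h1]
  have hsq : ∀ s t, s' (s * t ^ 2) = s' s * (s' t) ^ 2 := by
    intro s t
    by_cases ht : t = 0
    · subst ht
      simp [hs'0]
    · have h1 := hrel2 (s * t ^ 2) t ht
      have h2 : s * t ^ 2 / t ^ 2 = s := by field_simp
      rw [h2] at h1
      have h3 := hs'ne t ht
      rw [h1]
      field_simp
  have hsq1 : ∀ t, s' (t ^ 2) = (s' t) ^ 2 := by
    intro t
    have := hsq 1 t
    simpa [hs'1] using this
  have hneg : ∀ a, s' (-a) = - s' a := by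
    intro a
    have h1 := hs'add a (-a)
    rw [add_neg_cancel, hs'0] at h1
    exact (neg_eq_of_add_eq_zero_right h1.symm).symm
  have hsub : ∀ a b, s' (a - b) = s' a - s' b := by
    intro a b
    rw [sub_eq_add_neg, hs'add, hneg, sub_eq_add_neg]
  have hmul : ∀ a x, s' (a * x) = s' a * s' x := by
    intro a x
    by_cases h2 : (2 : F) = 0
    · -- characteristic two: every element is a square
      haveI : CharP F 2 := by
        haveI := Fintype.ofFinite F
        obtain ⟨p, hp⟩ := CharP.exists F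
        have h3 : (2 : ℕ) = 0 ∨ True := Or.inr trivial
        have h4 : ((2 : ℕ) : F) = 0 := by exact_mod_cast h2
        have h5 := (CharP.cast_eq_zero_iff F p 2).1 h4
        haveI := hp
        have h6 : p ≠ 1 := CharP.char_ne_one F p
        have h7 : p ≠ 0 := by
          intro h8
          subst h8
          have : CharZero F := CharP.charP_to_charZero F
          exact absurd (Finite.of_injective (Nat.cast : ℕ → F) Nat.cast_injective) (by
            exact not_finite_iff_infinite.2 inferInstance)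
        have h9 : p = 2 := by
          have := Nat.le_of_dvd (by norm_num) h5
          interval_cases p <;> simp_all
        subst h9
        exact hp
      haveI := Fintype.ofFinite F
      have hsurj : Function.Surjective (fun t : F => t ^ 2) := by
        have hi : Function.Injective (fun t : F => t ^ 2) := by
          intro u v e
          have h3 : (u - v) ^ 2 = 0 := by
            have : (u - v) ^ 2 = u ^ 2 - v ^ 2 := sub_pow_expChar u v
            rw [this]
            simp only at e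
            rw [e, sub_self]
          have h4 := pow_eq_zero_iff (two_ne_zero) |>.1 h3
          exact sub_eq_zero.1 h4
        exact Finite.surjective_of_injective hi
      obtain ⟨A, rfl⟩ := hsurj x
      show s' (a * A ^ 2) = s' a * s' (A ^ 2)
      rw [hsq, hsq1]
    · -- difference of squares
      have h3 : x = ((x + 1) / 2) ^ 2 - ((x - 1) / 2) ^ 2 := by
        field_simp
        ring
      have h4 : a * x = a * ((x + 1) / 2) ^ 2 - a * ((x - 1) / 2) ^ 2 := by
        conv_lhs => rw [h3]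
        ring
      rw [h4, hsub, hsq, hsq]
      conv_rhs => rw [h3]
      rw [hsub, hsq1, hsq1]
      ring
  let f : F →+* F :=
    { toFun := s'
      map_one' := hs'1
      map_mul' := hmul
      map_zero' := hs'0
      map_add' := hs'add }
  have hbij : Function.Bijective f := ⟨hs'inj, Finite.surjective_of_injective hs'inj⟩
  refine ⟨RingEquiv.ofBijective f hbij, Units.mk0 c hc0, ?_, ?_⟩
  · intro t
    show ψ t = c * (ψ t / c)
    field_simp
  · intro t
    rw [hψ']
    show ψ t / c ^ 2 = ((Units.mk0 c hc0)⁻¹ : Fˣ) * (ψ t / c)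
    simp only [Units.val_inv_eq_inv_val, Units.val_mk0]
    field_simp

end Algebra

variable {T : Tabs} {X : Extra} {R : RootTab} {D : ChevalleyDatum}
variable {F : Type*} [Field F]
variable (hF : Full T X R D)

include hF

section SL2

theorem nG_eq (r : ℕ) (t : F) : hF.c.nG r t = hF.c.xG r t * hF.c.xG (D.neg r) (-t⁻¹) * hF.c.xG r t := rfl

/-- `n(t)` in `SL₂`. -/
def nn (t : F) : Matrix.SpecialLinearGroup (Fin 2) F := x0 t * y0 (-t⁻¹) * x0 t

theorem exists_phi {i : ℕ} (hi : i < D.rank) :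
    ∃ φ : Matrix.SpecialLinearGroup (Fin 2) F →* GL D.Idx F,
      (∀ t, φ (x0 t) = hF.c.xG (D.simple i) t) ∧ (∀ t, φ (y0 t) = hF.c.xG (D.neg (D.simple i)) t) :=
  exists_hom (hF.rankOne hi)

theorem xG_not_one {r : ℕ} (hr : r < D.nroots) {t : F} (ht : t ≠ 0) : hF.c.xG r t ≠ 1 :=
  xG_ne_one hF hr ht

/-- The kernel of the `SL₂`-map consists of diagonal matrices. -/
theorem phi_ker {i : ℕ} (hi : i < D.rank) {φ : Matrix.SpecialLinearGroup (Fin 2) F →* GL D.Idx F}
    (hx : ∀ t, φ (x0 t) = hF.c.xG (D.simple i) t) (hy : ∀ t, φ (y0 t) = hF.c.xG (D.neg (D.simple i)) t)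
    {A : Matrix.SpecialLinearGroup (Fin 2) F} (hA : φ A = 1) : A.1 0 1 = 0 := by
  have hnn : ∀ t, φ (nn t) = hF.c.nG (D.simple i) t := by
    intro t
    simp only [nn, map_mul, hx, hy]
    rfl
  have hn0 : (n0 : Matrix.SpecialLinearGroup (Fin 2) F) = nn 1 := by
    apply ext4 <;> simp [nn, mul_a, mul_b, mul_c, mul_d, n0]
  have hD0 : ∀ u : Fˣ, (D0 u : Matrix.SpecialLinearGroup (Fin 2) F) = nn (u : F) * nn (-1) := by
    intro u
    have hu := u.ne_zero
    apply ext4 <;> simp [nn, mul_a, mul_b, mul_c, mul_d]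
    all_goals first | field_simp | skip
    all_goals first | ring | skip
  have hφn0 : φ n0 = hF.nS i := by
    rw [hn0, hnn]
    rfl
  have hφD0 : ∀ u : Fˣ, φ (D0 u) = hF.c.hG (D.simple i) (u : F) := by
    intro u
    rw [hD0, map_mul, hnn, hnn]
    rfl
  have hp := hF.simple_lt hi
  have hBx : ∀ t, hF.c.xG (D.simple i) t ∈ D.borelSubgroup F := xG_simple_mem_B hF hi
  have hBh : ∀ u : Fˣ, hF.c.hG (D.simple i) (u : F) ∈ D.borelSubgroup F := fun u =>
    hF.c.diagonal_le_borel (hF.c.hG_mem_diagonal hp u.ne_zero)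
  by_cases hc : A.1 1 0 = 0
  · have h1 := normal_zero A hc
    have h2 := a_ne_of_c A hc
    rw [h1, map_mul, hx, hφD0] at hA
    set b := A.1 0 1 * A.1 0 0 with hb
    have h3 : hF.c.xG (D.simple i) b = (hF.c.hG (D.simple i) ((uu (A.1 0 0) : Fˣ) : F))⁻¹ :=
      eq_inv_of_mul_eq_one_left hA
    have h4 : hF.c.xG (D.simple i) b ∈ D.posUnipotent F ⊓ D.monomialSubgroup F := by
      refine ⟨hF.xG_mem_U hp (hF.simple_ge hi) b, ?_⟩
      rw [h3]
      exact Subgroup.inv_mem _ (hF.c.diagonal_le_monomial (hF.c.hG_mem_diagonal hp (Units.ne_zero _)))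
    rw [hF.U_inf_N, Subgroup.mem_bot] at h4
    by_contra h5
    exact xG_not_one hF hp (mul_ne_zero h5 h2) h4
  · exfalso
    have h1 := normal_ne A hc
    rw [h1] at hA
    simp only [map_mul, hx, hφD0, hφn0] at hA
    set a := A.1 0 0 / A.1 1 0
    set b := A.1 1 1 / A.1 1 0
    set u := uu (-1 / A.1 1 0)
    have h2 : hF.nS i = (hF.c.hG (D.simple i) (u : F))⁻¹ * (hF.c.xG (D.simple i) a)⁻¹ * (hF.c.xG (D.simple i) b)⁻¹ := by
      have h3 : hF.c.xG (D.simple i) a * (hF.c.hG (D.simple i) (u : F) * (hF.nS i * hF.c.xG (D.simple i) b)) *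
          (hF.c.xG (D.simple i) b)⁻¹ = (hF.c.xG (D.simple i) b)⁻¹ := by
        rw [hA, one_mul]
      have h4 : hF.c.xG (D.simple i) a * (hF.c.hG (D.simple i) (u : F) * (hF.nS i * hF.c.xG (D.simple i) b)) *
          (hF.c.xG (D.simple i) b)⁻¹ = hF.c.xG (D.simple i) a * hF.c.hG (D.simple i) (u : F) * hF.nS i := by
        group
      rw [h4] at h3
      rw [← h3]
      group
    apply hF.nS_not_mem_borel (F := F) hi
    rw [h2]
    exact Subgroup.mul_mem _ (Subgroup.mul_mem _ (Subgroup.inv_mem _ (hBh u)) (Subgroup.inv_mem _ (hBx a)))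
      (Subgroup.inv_mem _ (hBx b))

/-- The key relation: if `x(a) y(b) x(a)` conjugates some `x(r)`, `r ≠ 0`, into `X_{-p}`, then `1 + ab = 0`. -/
theorem one_add_mul_eq_zero {i : ℕ} (hi : i < D.rank) {a b r s : F} (hr : r ≠ 0)
    (h : (hF.c.xG (D.simple i) a * hF.c.xG (D.neg (D.simple i)) b * hF.c.xG (D.simple i) a) * hF.c.xG (D.simple i) r *
      (hF.c.xG (D.simple i) a * hF.c.xG (D.neg (D.simple i)) b * hF.c.xG (D.simple i) a)⁻¹ = hF.c.xG (D.neg (D.simple i)) s) :
    1 + a * b = 0 := by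
  obtain ⟨φ, hx, hy⟩ := exists_phi hF (F := F) hi
  set g : Matrix.SpecialLinearGroup (Fin 2) F := x0 a * y0 b * x0 a with hg
  have h1 : φ (g * x0 r * g⁻¹ * y0 (-s)) = 1 := by
    simp only [map_mul, map_inv, hg, hx, hy]
    rw [h, ← hF.c.xG_inv]
    simp
  have h2 := phi_ker hF hi hx hy h1
  -- entries of `g⁻¹`
  have hinv01 : (g⁻¹).1 0 1 = - g.1 0 1 := by
    simp [Matrix.SpecialLinearGroup.coe_inv, Matrix.adjugate_fin_two]
  have hinv11 : (g⁻¹).1 1 1 = g.1 0 0 := by
    simp [Matrix.SpecialLinearGroup.coe_inv, Matrix.adjugate_fin_two]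
  have h3 : (g * x0 r * g⁻¹ * y0 (-s)).1 0 1 = r * (g.1 0 0) ^ 2 := by
    simp only [mul_a, mul_b, x0_a, x0_b, x0_c, x0_d, y0_b, y0_d, hinv01, hinv11]
    ring
  rw [h3] at h2
  have h4 : g.1 0 0 = 1 + a * b := by
    rw [hg]
    simp [mul_a]
  rw [h4] at h2
  have h5 := (mul_eq_zero.1 h2).resolve_left hr
  exact pow_eq_zero_iff (two_ne_zero) |>.1 h5

/-- `n(t) x(s) n(t)⁻¹ = y(-s/t²)` -/
theorem nG_conj_pos {i : ℕ} (hi : i < D.rank) {t : F} (ht : t ≠ 0) (s : F) :
    hF.c.nG (D.simple i) t * hF.c.xG (D.simple i) s * (hF.c.nG (D.simple i) t)⁻¹ =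
      hF.c.xG (D.neg (D.simple i)) (-(s / t ^ 2)) := by
  obtain ⟨φ, hx, hy⟩ := exists_phi hF (F := F) hi
  have hnn : ∀ t, φ (nn t) = hF.c.nG (D.simple i) t := by
    intro t
    simp only [nn, map_mul, hx, hy]
    rfl
  have h1 : nn t * x0 s * (nn t)⁻¹ = y0 (-(s / t ^ 2)) := by
    rw [mul_inv_eq_iff_eq_mul]
    apply ext4 <;> simp [nn, mul_a, mul_b, mul_c, mul_d]
    all_goals first | field_simp | skip
    all_goals first | ring1 | (ring_nf; simp)
  have h2 := congrArg φ h1
  simpa only [map_mul, map_inv, hnn, hx, hy] using h2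

end SL2

section Commute

theorem rc_mixed_false {c : ℕ} (hc : c < D.nroots) {i j : ℕ} (hi : i < D.rank) (hj : j < D.rank)
    (h1 : 0 < R.rcAt c i) (h2 : R.rcAt c j < 0) : False := by
  by_cases hN : R.N ≤ c
  · have := hF.rc_nonneg hc hN hj
    omega
  · have := hF.rc_nonpos (Nat.lt_of_not_ge hN) hi
    omega

theorem neg_simple_ne {i j : ℕ} (hi : i < D.rank) (hj : j < D.rank) : D.neg (D.simple j) ≠ D.simple i := by
  intro e
  have h1 := hF.simple_ge hi
  have h2 : R.N ≤ D.neg (D.simple j) := by omega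
  have h3 := hF.neg_lt_N (hF.simple_lt hj) (hF.simple_ge hj)
  omega

theorem neg_simple_inj {i j : ℕ} (hi : i < D.rank) (hj : j < D.rank) (e : D.neg (D.simple i) = D.neg (D.simple j)) : i = j := by
  have h1 := congrArg D.neg e
  rw [hF.neg_neg (hF.simple_lt hi), hF.neg_neg (hF.simple_lt hj)] at h1
  exact hF.simple_inj hi hj h1

/-- `x_{p_i}` and `x_{-p_j}` commute for `i ≠ j`. -/
theorem comm_pos_neg {i j : ℕ} (hi : i < D.rank) (hj : j < D.rank) (hij : i ≠ j) (s t : F) :
    hF.c.xG (D.simple i) s * hF.c.xG (D.neg (D.simple j)) t =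
      hF.c.xG (D.neg (D.simple j)) t * hF.c.xG (D.simple i) s := by
  have hpi := hF.simple_lt hi
  have hnj := hF.neg_lt (hF.simple_lt hj)
  have h1 : D.neg (D.simple j) ≠ D.simple i := neg_simple_ne hF hi hj
  have h2 : D.neg (D.simple j) ≠ D.neg (D.simple i) := fun e => hij (neg_simple_inj hF hi hj e.symm)
  have hempty : D.commTerms (D.simple i) (D.neg (D.simple j)) = [] := by
    apply List.eq_nil_iff_forall_not_mem.2
    intro c hc
    obtain ⟨h3, h4, h5, h6⟩ := hF.commTerms_spec hpi hnj h1 h2 hc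
    have h7 := h6 i hi
    have h8 := h6 j hj
    rw [hF.simple_rc hi hi, hF.rc_neg (hF.simple_lt hj) hi, hF.simple_rc hj hi, if_pos rfl, if_neg (Ne.symm hij)] at h7
    rw [hF.simple_rc hi hj, hF.rc_neg (hF.simple_lt hj) hj, hF.simple_rc hj hj, if_pos rfl, if_neg hij] at h8
    have h9 : (0 : ℤ) < (c.2.2.1 : ℤ) := by exact_mod_cast h4
    have h10 : (0 : ℤ) < (c.2.2.2 : ℤ) := by exact_mod_cast h5
    exact rc_mixed_false hF h3 hi hj (by rw [h7]; nlinarith) (by rw [h8]; nlinarith)
  have h3 := hF.xG_comm hpi hnj h1 h2 s t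
  rw [ChevalleyDatum.commWord, hempty] at h3
  simpa [Checks.wordG_nil] using h3.symm

/-- `x_{p_i}` and `x_{-p_i}` do not commute. -/
theorem not_comm_pos_neg {i : ℕ} (hi : i < D.rank)
    (h : hF.c.xG (D.simple i) (1 : F) * hF.c.xG (D.neg (D.simple i)) (-1) =
      hF.c.xG (D.neg (D.simple i)) (-1) * hF.c.xG (D.simple i) (1 : F)) : False := by
  have hp := hF.simple_lt hi
  have h1 : hF.nS i * hF.c.xG (D.simple i) (1 : F) = hF.c.xG (D.simple i) (1 : F) * hF.nS i := by
    show hF.c.nG _ _ * _ = _ * hF.c.nG _ _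
    rw [nG_eq hF, inv_one]
    have hc : Commute (hF.c.xG (D.simple i) (1 : F)) (hF.c.xG (D.neg (D.simple i)) (-1)) := h
    exact (((Commute.refl _).mul_left hc.symm).mul_left (Commute.refl _))
  have h2 := hF.nS_conj_xG hi hp (1 : F)
  rw [h1, mul_inv_cancel_right] at h2
  have h3 := hF.xG_root_inj hp (hF.wf_lt hi hp) (one_ne_zero) h2
  rw [hF.wf_simple hi] at h3
  exact neg_simple_ne hF hi hi h3.symm

/-- If the simple root elements commute (`i ≠ j`), the Cartan integer vanishes. -/
theorem cartan_zero_of_commute {i j : ℕ} (hi : i < D.rank) (hj : j < D.rank) (hij : i ≠ j)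
    (h : ∀ s t : F, hF.c.xG (D.simple i) s * hF.c.xG (D.simple j) t =
      hF.c.xG (D.simple j) t * hF.c.xG (D.simple i) s) : D.cartan j (D.simple i) = 0 := by
  have hpi := hF.simple_lt hi
  have h1 : hF.nS j * hF.c.xG (D.simple i) (1 : F) = hF.c.xG (D.simple i) (1 : F) * hF.nS j := by
    show hF.c.nG _ _ * _ = _ * hF.c.nG _ _
    rw [nG_eq hF, inv_one]
    have h2 : Commute _ _ := comm_pos_neg hF (F := F) hi hj hij 1 (-1)
    have h3 : Commute _ _ := h 1 1
    exact ((h3.mul_right h2).mul_right h3).symm.eq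
  have h2 := hF.nS_conj_xG hj hpi (1 : F)
  rw [h1, mul_inv_cancel_right] at h2
  have h3 := hF.xG_root_inj hpi (hF.wf_lt hj hpi) (one_ne_zero) h2
  have h4 := hF.wf_rc hj hpi hj
  rw [← h3, if_pos rfl] at h4
  omega

/-- If the Cartan integer vanishes, the simple root elements commute. -/
theorem commute_of_cartan_zero {i j : ℕ} (hi : i < D.rank) (hj : j < D.rank) (hij : i ≠ j)
    (h : D.cartan j (D.simple i) = 0) (s t : F) :
    hF.c.xG (D.simple i) s * hF.c.xG (D.simple j) t =
      hF.c.xG (D.simple j) t * hF.c.xG (D.simple i) s := by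
  have hpi := hF.simple_lt hi
  have hpj := hF.simple_lt hj
  have h1 : D.simple j ≠ D.simple i := fun e => hij (hF.simple_inj hi hj e.symm)
  have h2 : D.simple j ≠ D.neg (D.simple i) := fun e => neg_simple_ne hF hj hi e.symm
  have hempty : D.commTerms (D.simple i) (D.simple j) = [] := by
    apply List.eq_nil_iff_forall_not_mem.2
    intro c hc
    obtain ⟨h3, h4, h5, h6⟩ := hF.commTerms_spec hpi hpj h1 h2 hc
    have hk : (0 : ℤ) < (c.2.2.1 : ℤ) := by exact_mod_cast h4
    have hl : (0 : ℤ) < (c.2.2.2 : ℤ) := by exact_mod_cast h5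
    have hci : R.rcAt c.1 i = (c.2.2.1 : ℤ) := by
      have := h6 i hi
      rw [hF.simple_rc hi hi, hF.simple_rc hj hi, if_pos rfl, if_neg (Ne.symm hij)] at this
      rw [this]
      ring
    have hcj : R.rcAt c.1 j = (c.2.2.2 : ℤ) := by
      have := h6 j hj
      rw [hF.simple_rc hi hj, hF.simple_rc hj hj, if_pos rfl, if_neg hij] at this
      rw [this]
      ring
    -- Cartan integer of `c`
    have hcart : D.cartan j c.1 = 2 * (c.2.2.2 : ℤ) := by
      rw [hF.r.cartan_lin j hj c.1 h3, sumZ_eq]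
      have h7 : ∀ m ∈ Finset.range D.rank, R.rcAt c.1 m * D.cartan j (D.simple m) =
          ((c.2.2.1 : ℤ) * R.rcAt (D.simple i) m + (c.2.2.2 : ℤ) * R.rcAt (D.simple j) m) * D.cartan j (D.simple m) := by
        intro m hm
        rw [h6 m (Finset.mem_range.1 hm)]
      rw [Finset.sum_congr rfl h7]
      have h8 : ∀ a : ℕ, a < D.rank → ∑ m ∈ Finset.range D.rank, R.rcAt (D.simple a) m * D.cartan j (D.simple m) = D.cartan j (D.simple a) := by
        intro a ha
        exact ((hF.r.cartan_lin j hj _ (hF.simple_lt ha)).trans (sumZ_eq _ _)).symm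
      simp only [add_mul, Finset.sum_add_distrib, mul_assoc, ← Finset.mul_sum]
      rw [h8 i hi, h8 j hj, h, cartan_self hF hj]
      ring
    have h9 := hF.wf_rc hj h3 hj
    rw [if_pos rfl, hcart, hcj] at h9
    have h10 := hF.wf_rc hj h3 hi
    rw [if_neg hij, hci] at h10
    exact rc_mixed_false hF (hF.wf_lt hj h3) hi hj (by rw [h10]; exact hk) (by rw [h9]; omega)
  have h3 := hF.xG_comm hpi hpj h1 h2 s t
  rw [ChevalleyDatum.commWord, hempty] at h3
  simpa [Checks.wordG_nil] using h3.symm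

end Commute

end Cfsg.Agent.Lib.ChevAut
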