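import Mathlib
import Cfsg.Agent.Lib.ChevAut.Rank1

/-!
# The structure of a normalised automorphism on the fundamental root elements
-/

set_option autoImplicit false
set_option linter.unusedSectionVars false
set_option linter.unusedVariables false
set_option linter.unnecessarySimpa false

namespace Cfsg.Agent.Lib.ChevAut

open Cfsg.Lie Matrix Cfsg.Agent.Lib.Chev Cfsg.Agent.Lib.Chev.Full Cfsg.Agent.Lib.ChevFix Cfsg.Agent.Lib.ChevFix2
open Cfsg.Agent.Lib.Chev.SL2

variable {T : Tabs} {X : Extra} {R : RootTab} {D : ChevalleyDatum}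
variable {F : Type*} [Field F]
variable (hF : Full T X R D)

/-- A root element, as an element of the group. -/
noncomputable def gx {r : ℕ} (hr : r < D.nroots) (t : F) : ↥(D.group F) :=
  ⟨hF.c.xG r t, hF.c.xG_mem_group hr t⟩

@[simp] theorem gx_val {r : ℕ} (hr : r < D.nroots) (t : F) : (gx hF hr t).1 = hF.c.xG r t := rfl

include hF

theorem gx_mul {r : ℕ} (hr : r < D.nroots) (a b : F) : gx hF hr a * gx hF hr b = gx hF hr (a + b) :=
  Subtype.ext (hF.c.xG_add r a b)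

theorem gx_inj {r : ℕ} (hr : r < D.nroots) {a b : F} (h : gx hF hr a = gx hF hr b) : a = b :=
  hF.xG_param_inj hr (congrArg Subtype.val h)

theorem data_of_iff {θ : ↥(D.group F) ≃* ↥(D.group F)} {r r' : ℕ} (hr : r < D.nroots) (hr' : r' < D.nroots)
    (h : ∀ g : ↥(D.group F), (∃ t : F, g.1 = hF.c.xG r t) ↔ ∃ t' : F, (θ g).1 = hF.c.xG r' t') :
    ∃ ψ : F → F, (∀ t, θ (gx hF hr t) = gx hF hr' (ψ t)) ∧ Function.Bijective ψ ∧
      ∀ a b, ψ (a + b) = ψ a + ψ b := by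
  have h1 : ∀ t : F, ∃ t' : F, (θ (gx hF hr t)).1 = hF.c.xG r' t' := fun t => (h _).1 ⟨t, rfl⟩
  choose ψ hψ using h1
  have hψ' : ∀ t, θ (gx hF hr t) = gx hF hr' (ψ t) := fun t => Subtype.ext (hψ t)
  refine ⟨ψ, hψ', ⟨?_, ?_⟩, ?_⟩
  · intro a b e
    have : θ (gx hF hr a) = θ (gx hF hr b) := by rw [hψ', hψ', e]
    exact gx_inj hF hr (θ.injective this)
  · intro t'
    obtain ⟨t, ht⟩ := (h (θ.symm (gx hF hr' t'))).2 ⟨t', by simp⟩
    refine ⟨t, ?_⟩
    have h2 : θ.symm (gx hF hr' t') = gx hF hr t := Subtype.ext ht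
    have h3 := hψ' t
    rw [← h2] at h3
    simp only [MulEquiv.apply_symm_apply] at h3
    exact (gx_inj hF hr' h3).symm
  · intro a b
    have h3 := congrArg θ (gx_mul hF hr a b)
    rw [map_mul, hψ', hψ', hψ', gx_mul hF] at h3
    exact (gx_inj hF hr' h3).symm

/-- The data of a normalised automorphism on the fundamental root elements. -/
structure AutData (hF : Full T X R D) (θ : ↥(D.group F) ≃* ↥(D.group F)) (ρ : Equiv.Perm (Fin D.rank))
    (τ : Fin D.rank → F ≃+* F) (c : Fin D.rank → Fˣ) : Prop where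
  pos : ∀ (i : Fin D.rank) (t : F), θ (gx hF (hF.simple_lt i.2) t) =
    gx hF (hF.simple_lt (ρ i).2) ((c i : F) * τ i t)
  neg : ∀ (i : Fin D.rank) (t : F), θ (gx hF (hF.neg_lt (hF.simple_lt i.2)) t) =
    gx hF (hF.neg_lt (hF.simple_lt (ρ i).2)) (((c i)⁻¹ : Fˣ) * τ i t)
  star : ∀ (i j : Fin D.rank) (u : F), u ≠ 0 →
    (τ i u) ^ (D.cartan (ρ i) (D.simple (ρ j))) = (τ j u) ^ (D.cartan i (D.simple j))
  adj : ∀ (i j : Fin D.rank), i ≠ j →
    (D.cartan (ρ j) (D.simple (ρ i)) = 0 ↔ D.cartan j (D.simple i) = 0)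

theorem zero_of_additive {ψ : F → F} (h : ∀ a b, ψ (a + b) = ψ a + ψ b) : ψ 0 = 0 := by
  have := h 0 0
  simp only [add_zero] at this
  exact left_eq_add.1 this

theorem neg_of_additive {ψ : F → F} (h : ∀ a b, ψ (a + b) = ψ a + ψ b) (a : F) : ψ (-a) = - ψ a := by
  have h1 := h a (-a)
  rw [add_neg_cancel, zero_of_additive hF h] at h1
  exact (neg_eq_of_add_eq_zero_right h1.symm).symm

/-- From parametrised data on the fundamental root elements. -/
theorem autData_of_data [Finite F] {θ : ↥(D.group F) ≃* ↥(D.group F)} (ρ : Equiv.Perm (Fin D.rank))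
    (ψ ψ' : Fin D.rank → F → F)
    (hψ : ∀ (i : Fin D.rank) t, θ (gx hF (hF.simple_lt i.2) t) = gx hF (hF.simple_lt (ρ i).2) (ψ i t))
    (hψb : ∀ i, Function.Bijective (ψ i)) (hψa : ∀ i a b, ψ i (a + b) = ψ i a + ψ i b)
    (hψ'' : ∀ (i : Fin D.rank) t, θ (gx hF (hF.neg_lt (hF.simple_lt i.2)) t) =
      gx hF (hF.neg_lt (hF.simple_lt (ρ i).2)) (ψ' i t))
    (hψb' : ∀ i, Function.Bijective (ψ' i)) (hψa' : ∀ i a b, ψ' i (a + b) = ψ' i a + ψ' i b) :
    ∃ τ c, AutData hF θ ρ τ c := by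
  classical
  have hp : ∀ i : Fin D.rank, D.simple i < D.nroots := fun i => hF.simple_lt i.2
  have hn : ∀ i : Fin D.rank, D.neg (D.simple i) < D.nroots := fun i => hF.neg_lt (hp i)
  have hρinj : Function.Injective ρ := ρ.injective
  let ρe : Equiv.Perm (Fin D.rank) := ρ
  have hρe : ∀ i, ρe i = ρ i := fun i => rfl
  -- the elements `n_i(t)`
  have hne : ∀ i t, t ≠ 0 → ψ i t ≠ 0 := by
    intro i t ht e
    apply ht
    apply (hψb i).1
    rw [e, zero_of_additive hF (hψa i)]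
  have hnG : ∀ (i : Fin D.rank) {t : F}, t ≠ 0 →
      (θ (gx hF (hp i) t * gx hF (hn i) (-t⁻¹) * gx hF (hp i) t)).1 = hF.c.nG (D.simple (ρ i)) (ψ i t) := by
    intro i t ht
    have h3 := nG_conj_pos hF (F := F) i.2 ht 1
    have h4 : (gx hF (hp i) t * gx hF (hn i) (-t⁻¹) * gx hF (hp i) t) * gx hF (hp i) 1 *
        (gx hF (hp i) t * gx hF (hn i) (-t⁻¹) * gx hF (hp i) t)⁻¹ = gx hF (hn i) (-(1 / t ^ 2)) :=
      Subtype.ext h3
    have h5 := congrArg θ h4
    simp only [map_mul, map_inv, hψ, hψ''] at h5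
    have h6 := congrArg Subtype.val h5
    simp only [Subgroup.coe_mul, Subgroup.coe_inv, gx_val] at h6
    have h7 := one_add_mul_eq_zero hF (ρ i).2 (hne i 1 one_ne_zero) h6
    have h8 : ψ' i (-t⁻¹) = -(ψ i t)⁻¹ := by
      have h9 := hne i t ht
      have h10 : ψ i t * ψ' i (-t⁻¹) = -1 := by linear_combination h7
      calc ψ' i (-t⁻¹) = (ψ i t)⁻¹ * (ψ i t * ψ' i (-t⁻¹)) := by field_simp
        _ = _ := by rw [h10]; ring
    simp only [map_mul, hψ, hψ'', Subgroup.coe_mul, gx_val, h8]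
    rw [nG_eq hF]
  -- the relation
  have hrel : ∀ (i : Fin D.rank) (s t : F), t ≠ 0 → ψ' i (s / t ^ 2) = ψ i s / (ψ i t) ^ 2 := by
    intro i s t ht
    have h3 := nG_conj_pos hF (F := F) i.2 ht s
    have h4 : (gx hF (hp i) t * gx hF (hn i) (-t⁻¹) * gx hF (hp i) t) * gx hF (hp i) s *
        (gx hF (hp i) t * gx hF (hn i) (-t⁻¹) * gx hF (hp i) t)⁻¹ = gx hF (hn i) (-(s / t ^ 2)) :=
      Subtype.ext h3
    have h5 := congrArg θ h4
    rw [map_mul, map_mul, map_inv, hψ, hψ''] at h5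
    have h6 := congrArg Subtype.val h5
    simp only [Subgroup.coe_mul, Subgroup.coe_inv, gx_val] at h6
    rw [hnG i ht, nG_conj_pos hF (ρ i).2 (hne i t ht)] at h6
    have h7 := hF.xG_param_inj (hn (ρ i)) h6
    rw [neg_of_additive hF (hψa' i)] at h7
    exact (neg_injective h7).symm
  have hex : ∀ i, ∃ (σ : F ≃+* F) (c : Fˣ), (∀ t, ψ i t = (c : F) * σ t) ∧ (∀ t, ψ' i t = (c⁻¹ : Fˣ) * σ t) :=
    fun i => exists_ringEquiv_of_rel (ψ i) (ψ' i) (hψa i) (hψb i).1 (hrel i)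
  choose τ c hτ hτ' using hex
  refine ⟨τ, c, ?_⟩
  have hh : ∀ (i : Fin D.rank) {u : F}, u ≠ 0 → ∃ g : ↥(D.group F), g.1 = hF.c.hG (D.simple i) u ∧
      (θ g).1 = hF.c.hG (D.simple (ρ i)) (τ i u) := by
    intro i u hu
    have hm1 : (-1 : F) ≠ 0 := neg_ne_zero.2 one_ne_zero
    let g : ↥(D.group F) := (gx hF (hp i) u * gx hF (hn i) (-u⁻¹) * gx hF (hp i) u) *
      (gx hF (hp i) (-1) * gx hF (hn i) (-(-1 : F)⁻¹) * gx hF (hp i) (-1))
    refine ⟨g, rfl, ?_⟩
    show (θ ((gx hF (hp i) u * gx hF (hn i) (-u⁻¹) * gx hF (hp i) u) *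
      (gx hF (hp i) (-1) * gx hF (hn i) (-(-1 : F)⁻¹) * gx hF (hp i) (-1)))).1 = _
    rw [map_mul, Subgroup.coe_mul, hnG i hu, hnG i hm1, neg_of_additive hF (hψa i), hτ i 1, hτ i u, map_one, mul_one]
    set p := D.simple (ρ i) with hpdef
    have hpp : p < D.nroots := hp (ρ i)
    set cc : F := ((c i : Fˣ) : F) with hcc
    have hcc0 : cc ≠ 0 := Units.ne_zero _
    have hτu : τ i u ≠ 0 := fun e => hu ((τ i).injective (by rw [e, map_zero]))
    have h3 : hF.c.nG p (cc * τ i u) = hF.c.hG p (cc * τ i u) * hF.c.nG p 1 := hF.c.nG_eq_hG_mul _ _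
    have h4 : hF.c.nG p (-cc) = (hF.c.hG p cc * hF.c.nG p 1)⁻¹ := by
      rw [hF.c.nG_neg, hF.c.nG_eq_hG_mul]
    rw [h3, h4, _root_.mul_inv_rev, mul_assoc, mul_inv_cancel_left, mul_comm cc, ← hF.hG_mul hpp hτu hcc0]
    group
  constructor
  · intro i t
    rw [hψ, hτ]
  · intro i t
    rw [hψ'', hτ']
  · intro i j u hu
    obtain ⟨g, hg, hgθ⟩ := hh i hu
    have hcom : ∀ (a : F) (r : ℕ) (hr : r < D.nroots) (w : F) (hw : w ≠ 0) (m : ℕ) (hm : m < D.rank),
        hF.c.hG (D.simple m) w * hF.c.xG r a = hF.c.xG r (w ^ (D.cartan m r) * a) * hF.c.hG (D.simple m) w := by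
      intro a r hr w hw m hm
      apply Units.ext
      simp only [Units.val_mul, Checks.coe_hG, Checks.coe_xG]
      exact hF.c.hSimple_mul_x hm hr w hw a
    have h3 : g * gx hF (hp j) 1 = gx hF (hp j) (u ^ (D.cartan i (D.simple j)) * 1) * g :=
      Subtype.ext (by
        simp only [Subgroup.coe_mul, gx_val, hg]
        exact hcom 1 _ (hp j) u hu i i.2)
    have h4 := congrArg θ h3
    rw [map_mul, map_mul, hψ, hψ, hτ, hτ] at h4
    have h5 := congrArg Subtype.val h4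
    simp only [Subgroup.coe_mul, gx_val, hgθ] at h5
    have hτu : τ i u ≠ 0 := fun e => hu ((τ i).injective (by rw [e, map_zero]))
    rw [hcom _ _ (hp (ρ j)) _ hτu _ (ρ i).2] at h5
    have h6 := mul_right_cancel h5
    have h7 := hF.xG_param_inj (hp (ρ j)) h6
    rw [mul_one, map_zpow₀, map_one, mul_one] at h7
    have hc := Units.ne_zero (c j)
    have h8 : (τ i u) ^ (D.cartan (ρ i) (D.simple (ρ j))) * (c j : F) = (τ j u) ^ (D.cartan i (D.simple j)) * (c j : F) := by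
      rw [mul_comm, mul_comm _ (c j : F)]
      linear_combination h7
    exact mul_right_cancel₀ hc h8
  · intro i j hij
    have hij' : (i : ℕ) ≠ j := fun e => hij (Fin.ext e)
    have hρij : ρ i ≠ ρ j := fun e => hij (hρinj e)
    have hρij' : ((ρ i : Fin D.rank) : ℕ) ≠ ρ j := fun e => hρij (Fin.ext e)
    constructor
    · intro h3
      have h4 := commute_of_cartan_zero hF (F := F) (ρ i).2 (ρ j).2 hρij' h3
      apply cartan_zero_of_commute hF (F := F) i.2 j.2 hij'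
      intro s t
      have h5 : θ (gx hF (hp i) s * gx hF (hp j) t) = θ (gx hF (hp j) t * gx hF (hp i) s) := by
        rw [map_mul, map_mul, hψ, hψ]
        exact Subtype.ext (h4 _ _)
      exact congrArg Subtype.val (θ.injective h5)
    · intro h3
      have h4 := commute_of_cartan_zero hF (F := F) i.2 j.2 hij' h3
      apply cartan_zero_of_commute hF (F := F) (ρ i).2 (ρ j).2 hρij'
      intro s t
      obtain ⟨s', rfl⟩ := (hψb i).2 s
      obtain ⟨t', rfl⟩ := (hψb j).2 t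
      have h5 := congrArg θ (Subtype.ext (h4 s' t') : gx hF (hp i) s' * gx hF (hp j) t' = gx hF (hp j) t' * gx hF (hp i) s')
      rw [map_mul, map_mul, hψ, hψ] at h5
      exact congrArg Subtype.val h5

/-- The main structure theorem on normalised automorphisms. -/
theorem exists_autData [Finite F] {θ : ↥(D.group F) ≃* ↥(D.group F)} (hθ : Nrm D F θ) :
    ∃ ρ τ c, AutData hF θ ρ τ c := by
  classical
  have hp : ∀ i : Fin D.rank, D.simple i < D.nroots := fun i => hF.simple_lt i.2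
  have hn : ∀ i : Fin D.rank, D.neg (D.simple i) < D.nroots := fun i => hF.neg_lt (hp i)
  -- the data
  have h1 : ∀ i : Fin D.rank, ∃ (j : Fin D.rank) (ψ : F → F),
      (∀ t, θ (gx hF (hp i) t) = gx hF (hp j) (ψ t)) ∧ Function.Bijective ψ ∧ ∀ a b, ψ (a + b) = ψ a + ψ b := by
    intro i
    obtain ⟨j, hj, hij⟩ := pos_simple_map hF hθ i.2
    obtain ⟨ψ, h⟩ := data_of_iff hF (hp i) (hp ⟨j, hj⟩) hij
    exact ⟨⟨j, hj⟩, ψ, h⟩
  have h2 : ∀ i : Fin D.rank, ∃ (j : Fin D.rank) (ψ : F → F),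
      (∀ t, θ (gx hF (hn i) t) = gx hF (hn j) (ψ t)) ∧ Function.Bijective ψ ∧ ∀ a b, ψ (a + b) = ψ a + ψ b := by
    intro i
    obtain ⟨j, hj, hij⟩ := neg_simple_map hF hθ i.2
    obtain ⟨ψ, h⟩ := data_of_iff hF (hn i) (hn ⟨j, hj⟩) hij
    exact ⟨⟨j, hj⟩, ψ, h⟩
  choose ρ ψ hψ hψb hψa using h1
  choose ρ' ψ' hψ' hψb' hψa' using h2
  -- `x_{p_i}` and `x_{-p_i}` do not commute in the image
  have hnc : ∀ (i j : Fin D.rank), ρ i = ρ' j → i = j := by
    intro i j e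
    by_contra hij
    have hij' : ((i : ℕ)) ≠ j := fun e => hij (Fin.ext e)
    -- commuting pair
    have h3 := comm_pos_neg hF (F := F) i.2 j.2 hij'
    have h4 : ∀ (a b : F), gx hF (hp i) a * gx hF (hn j) b = gx hF (hn j) b * gx hF (hp i) a :=
      fun a b => Subtype.ext (h3 a b)
    obtain ⟨a, ha⟩ := (hψb i).2 1
    obtain ⟨b, hb⟩ := (hψb' j).2 (-1)
    have h5 := congrArg θ (h4 a b)
    rw [map_mul, map_mul, hψ, hψ', ha, hb] at h5
    have h6 := congrArg Subtype.val h5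
    simp only [Subgroup.coe_mul, gx_val] at h6
    rw [← e] at h6
    exact not_comm_pos_neg hF (ρ i).2 h6
  have hρeq : ∀ i, ρ' i = ρ i := by
    intro i
    by_contra hne
    -- `ρ i ≠ ρ' i`, the images commute, hence so do `x_{p_i}`, `x_{-p_i}`
    have h3 := comm_pos_neg hF (F := F) (ρ i).2 (ρ' i).2 (fun e => hne (Fin.ext e).symm)
    have h4 : ∀ (a b : F), gx hF (hp (ρ i)) a * gx hF (hn (ρ' i)) b = gx hF (hn (ρ' i)) b * gx hF (hp (ρ i)) a :=
      fun a b => Subtype.ext (h3 a b)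
    have h5 : θ (gx hF (hp i) 1 * gx hF (hn i) (-1)) = θ (gx hF (hn i) (-1) * gx hF (hp i) 1) := by
      rw [map_mul, map_mul, hψ, hψ', h4]
    have h6 := congrArg Subtype.val (θ.injective h5)
    simp only [Subgroup.coe_mul, gx_val] at h6
    exact not_comm_pos_neg hF i.2 h6
  have hρinj : Function.Injective ρ := by
    intro i j e
    exact hnc i j (by rw [e, hρeq])
  have hρbij : Function.Bijective ρ := ⟨hρinj, Finite.surjective_of_injective hρinj⟩
  let ρe : Equiv.Perm (Fin D.rank) := Equiv.ofBijective ρ hρbij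
  have hρe : ∀ i, ρe i = ρ i := fun i => rfl
  have hψ'' : ∀ i t, θ (gx hF (hn i) t) = gx hF (hn (ρ i)) (ψ' i t) := by
    intro i t
    rw [← hρeq]
    exact hψ' i t
  obtain ⟨τ, c, h⟩ := autData_of_data hF ρe ψ ψ' hψ hψb hψa hψ'' hψb' hψa'
  exact ⟨ρe, τ, c, h⟩

end Cfsg.Agent.Lib.ChevAut
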