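import Mathlib
import Cfsg.Agent.Lib.ChevAut.Struct

/-!
# Constructions: field automorphisms and diagonal automorphisms
-/

set_option autoImplicit false
set_option linter.unusedSectionVars false
set_option linter.unusedVariables false
set_option linter.unnecessarySimpa false

namespace Cfsg.Agent.Lib.ChevAut

open Cfsg.Lie Matrix Cfsg.Agent.Lib.Chev Cfsg.Agent.Lib.Chev.Full Cfsg.Agent.Lib.ChevFix Cfsg.Agent.Lib.ChevFix2

variable {T : Tabs} {X : Extra} {R : RootTab} {D : ChevalleyDatum}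
variable {F : Type*} [Field F]

/-- The automorphism of the group induced by a field automorphism. -/
noncomputable def fieldAut (D : ChevalleyDatum) (σ : F ≃+* F) : ↥(D.group F) ≃* ↥(D.group F) where
  toFun g := ⟨glM D (σ : F →+* F) g.1, map_group_le D (σ : F →+* F) ⟨g.1, g.2, rfl⟩⟩
  invFun g := ⟨glM D (σ.symm : F →+* F) g.1, map_group_le D (σ.symm : F →+* F) ⟨g.1, g.2, rfl⟩⟩
  left_inv g := by
    apply Subtype.ext
    apply Units.ext
    ext i j
    simp [glM_val]
  right_inv g := by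
    apply Subtype.ext
    apply Units.ext
    ext i j
    simp [glM_val]
  map_mul' a b := by
    apply Subtype.ext
    simp

variable (hF : Full T X R D)

include hF

theorem fieldAut_gx (σ : F ≃+* F) {r : ℕ} (hr : r < D.nroots) (t : F) :
    fieldAut D σ (gx hF hr t) = gx hF hr (σ t) :=
  Subtype.ext (Fix.glM_xG hF (σ : F →+* F) r t)

theorem fieldAut_symm_gx (σ : F ≃+* F) {r : ℕ} (hr : r < D.nroots) (t : F) :
    (fieldAut D σ).symm (gx hF hr t) = gx hF hr (σ.symm t) := by
  rw [MulEquiv.symm_apply_eq, fieldAut_gx hF σ hr]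
  simp

/-- An element of the group whose matrix is a root element. -/
theorem eq_gx {g : ↥(D.group F)} {r : ℕ} (hr : r < D.nroots) {t : F}
    (h : ((g : GL D.Idx F) : Matrix D.Idx D.Idx F) = D.x F r t) : g = gx hF hr t :=
  Subtype.ext (hF.c.eq_xG h)

theorem isFieldAut_fieldAut (σ : F ≃+* F) : D.IsFieldAut (fieldAut D σ) := by
  refine ⟨σ, fun g r t hr hg => ?_⟩
  rw [eq_gx hF hr hg, fieldAut_gx hF σ hr]
  simp

/-! ### Diagonal automorphisms -/

theorem diagG_conj_xG (v : ℕ → Fˣ) {s : ℕ} (hs : s < D.nroots) (t : F) :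
    diagG D (chr R D.rank v) * hF.c.xG s t * (diagG D (chr R D.rank v))⁻¹ =
      hF.c.xG s (((chr R D.rank v s : Fˣ) : F) * t) := by
  rw [mul_inv_eq_iff_eq_mul]
  apply Units.ext
  simp only [Units.val_mul, Checks.coe_xG]
  exact hF.diagG_mul_x v hs t

theorem diagG_chr_inv (v : ℕ → Fˣ) : (diagG D (chr R D.rank v))⁻¹ = diagG D (chr R D.rank v⁻¹) := by
  rw [diagG_inv]
  congr 1
  funext s
  simp [chr_inv]

theorem diagG_conj_mem (v : ℕ → Fˣ) {g : GL D.Idx F} (hg : g ∈ D.group F) :
    diagG D (chr R D.rank v) * g * (diagG D (chr R D.rank v))⁻¹ ∈ D.group F := by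
  have h1 : D.group F ≤ (D.group F).comap (MulAut.conj (diagG D (chr R D.rank v) : GL D.Idx F)).toMonoidHom := by
    apply hF.c.group_le_of
    intro r hr t
    show diagG D (chr R D.rank v) * hF.c.xG r t * (diagG D (chr R D.rank v))⁻¹ ∈ D.group F
    rw [diagG_conj_xG hF v hr t]
    exact hF.c.xG_mem_group hr _
  exact h1 hg

/-- The diagonal automorphism given by `v`: conjugation by `diagG (chr v)`. -/
noncomputable def diagAut (v : ℕ → Fˣ) : ↥(D.group F) ≃* ↥(D.group F) where
  toFun g := ⟨diagG D (chr R D.rank v) * g.1 * (diagG D (chr R D.rank v))⁻¹, diagG_conj_mem hF v g.2⟩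
  invFun g := ⟨(diagG D (chr R D.rank v))⁻¹ * g.1 * diagG D (chr R D.rank v), by
    have h1 := diagG_conj_mem hF v⁻¹ g.2
    rw [← diagG_chr_inv hF v, inv_inv] at h1
    exact h1⟩
  left_inv g := by
    apply Subtype.ext
    show _ * (_ * _ * _) * _ = _
    group
  right_inv g := by
    apply Subtype.ext
    show _ * (_ * _ * _) * _ = _
    group
  map_mul' a b := by
    apply Subtype.ext
    show _ * (a.1 * b.1) * _ = (_ * _ * _) * (_ * _ * _)
    group

theorem diagAut_gx (v : ℕ → Fˣ) {r : ℕ} (hr : r < D.nroots) (t : F) :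
    diagAut hF v (gx hF hr t) = gx hF hr (((chr R D.rank v r : Fˣ) : F) * t) :=
  Subtype.ext (diagG_conj_xG hF v hr t)

theorem diagAut_symm_gx (v : ℕ → Fˣ) {r : ℕ} (hr : r < D.nroots) (t : F) :
    (diagAut hF v).symm (gx hF hr t) = gx hF hr (((chr R D.rank v r : Fˣ) : F)⁻¹ * t) := by
  rw [MulEquiv.symm_apply_eq, diagAut_gx hF v hr, ← mul_assoc, mul_inv_cancel₀ (Units.ne_zero _), one_mul]

theorem chr_simple (v : ℕ → Fˣ) {i : ℕ} (hi : i < D.rank) : chr R D.rank v (D.simple i) = v i := by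
  unfold chr
  rw [Finset.prod_eq_single i]
  · rw [hF.simple_rc hi hi, if_pos rfl, zpow_one]
  · intro b hb hbi
    rw [hF.simple_rc hi (Finset.mem_range.1 hb), if_neg (Ne.symm hbi), zpow_zero]
  · intro h
    exact absurd (Finset.mem_range.2 hi) h

theorem chr_neg (v : ℕ → Fˣ) {r : ℕ} (hr : r < D.nroots) : chr R D.rank v (D.neg r) = (chr R D.rank v r)⁻¹ := by
  unfold chr
  rw [← Finset.prod_inv_distrib]
  apply Finset.prod_congr rfl
  intro j hj
  rw [hF.rc_neg hr (Finset.mem_range.1 hj), _root_.zpow_neg]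

/-- No chain through `±r`. -/
def ChainOK (D : ChevalleyDatum) : Prop :=
  ∀ r < D.nroots, D.chainEntry r r = [] ∧ D.chainEntry r (D.neg r) = []

theorem chr_chain (hC : ChainOK D) (v : ℕ → Fˣ) {r s k : ℕ} (hr : r < D.nroots) (hs : s < D.nroots)
    (h : D.chainRoot r s 1 = some k) : chr R D.rank v k = chr R D.rank v r * chr R D.rank v s := by
  have h1 : s ≠ r := by
    rintro rfl
    simp [ChevalleyDatum.chainRoot, (hC s hr).1] at h
  have h2 : s ≠ D.neg r := by
    rintro rfl
    simp [ChevalleyDatum.chainRoot, (hC r hr).2] at h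
  have hmem : (k, D.chainM r s 1, 1, 1) ∈ D.commTerms r s := by
    simp only [ChevalleyDatum.commTerms, List.filterMap_cons, h, Option.map_some]
    exact List.mem_cons_self
  obtain ⟨h3, h4, h5, h6⟩ := hF.commTerms_spec hr hs h1 h2 hmem
  unfold chr
  rw [← Finset.prod_mul_distrib]
  apply Finset.prod_congr rfl
  intro j hj
  have h7 := h6 j (Finset.mem_range.1 hj)
  simp only [Nat.cast_one, one_mul] at h7
  rw [h7, _root_.zpow_add]

theorem isRootCharacter_chr (hC : ChainOK D) (v : ℕ → Fˣ) : D.IsRootCharacter (chr R D.rank v) :=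
  ⟨fun r hr => chr_neg hF v hr, fun r s k hr hs h => chr_chain hF hC v hr hs h⟩

theorem isDiagonalAut_diagAut (hC : ChainOK D) (v : ℕ → Fˣ) : D.IsDiagonalAut (diagAut hF v) := by
  refine ⟨chr R D.rank v, isRootCharacter_chr hF hC v, fun g => ?_⟩
  have h1 : ((diagAut hF v g : ↥(D.group F)) : GL D.Idx F) =
      diagG D (chr R D.rank v) * g.1 * (diagG D (chr R D.rank v))⁻¹ := rfl
  rw [h1, diagG_inv]
  simp only [Units.val_mul]
  rfl

end Cfsg.Agent.Lib.ChevAut
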