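import Mathlib
import Cfsg.Agent.Lib.Chev.Prod
import Cfsg.Agent.Lib.Chev.Simple
import Cfsg.Agent.Lib.Chev.Levi
import Cfsg.Agent.Lib.CharTwoLocal

/-!
# The generalized Fitting subgroup of a parabolic subgroup of a Chevalley group

`C_{P_J}(U_J) ≤ U`, so `F*(P_J) = O_p(P_J)`.
-/

set_option autoImplicit false
set_option linter.unusedSectionVars false
set_option linter.unusedVariables false
set_option linter.unnecessarySimpa false

namespace Cfsg.Agent.Lib.ChevAut.ParabFit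

open Cfsg Cfsg.Lie Matrix Cfsg.Agent.Lib.Chev Cfsg.Agent.Lib.Chev.Full Cfsg.Agent.Lib.Chev.Tri

variable {T : Tabs} {X : Extra} {R : RootTab} {D : ChevalleyDatum} (hF : Full T X R D)
variable {F : Type*} [Field F]

section Grad

variable {ℓ : D.Idx → ℕ} {d : ℕ} {M : ℤ} (hd : ∀ b, ℓ b < d) (hℓ : ∀ b, (ℓ b : ℤ) = gr R D hF.phiW b + M)

include hF hℓ

theorem x_sub_one_mem {s : ℕ} (hs : s < D.nroots) (hpos : R.N ≤ s) (t : F) {m : ℕ}
    (hm : (m : ℤ) ≤ R.lin D.rank hF.phiW s) : D.x F s t - 1 ∈ J ℓ m := by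
  intro i j hij
  by_cases hne : i = j
  · subst hne
    simp [Matrix.sub_apply, hF.x_entry_self hs t i]
  · rw [Matrix.sub_apply, Matrix.one_apply_ne hne, sub_zero]
    by_contra h0
    obtain ⟨c, hc, h1⟩ := hF.x_entry_ne hs hne h0
    have h2 := hF.gr_add hF.phiW h1
    have h5 : (1 : ℤ) ≤ c := by exact_mod_cast hc
    have h3 := hF.phi_pos hs hpos
    have h6 : R.lin D.rank hF.phiW s ≤ (c : ℤ) * R.lin D.rank hF.phiW s := by nlinarith
    have h7 := hℓ i
    have h8 := hℓ j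
    omega

theorem borel_le_Tri' : D.borelSubgroup F ≤ Tri (F := F) ℓ := by
  apply sup_le
  · unfold ChevalleyDatum.posUnipotent
    rw [Subgroup.closure_le]
    rintro g ⟨s, t, hs, hg⟩
    obtain ⟨hs1, hs2⟩ := (hF.isPos_iff).1 hs
    rw [SetLike.mem_coe, mem_Tri, hg]
    have h1 : D.x F s t - 1 ∈ J ℓ 0 := x_sub_one_mem hF hℓ hs1 hs2 t (by
      have := hF.phi_pos hs1 hs2
      simpa using this.le)
    have h2 := J_add h1 (J_one_mem_zero (ℓ := ℓ) (F := F))
    simpa using h2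
  · exact hF.diagonal_le_Tri ℓ

include hd in
theorem U_le_UT : D.posUnipotent F ≤ UT (F := F) ℓ 0 d hd := by
  unfold ChevalleyDatum.posUnipotent
  rw [Subgroup.closure_le]
  rintro g ⟨s, t, hs, hg⟩
  obtain ⟨hs1, hs2⟩ := (hF.isPos_iff).1 hs
  rw [SetLike.mem_coe, mem_UT, hg]
  exact x_sub_one_mem hF hℓ hs1 hs2 t (by
    have := hF.phi_pos hs1 hs2
    simpa using (by omega : (1 : ℤ) ≤ R.lin D.rank hF.phiW s))

omit hℓ in
/-- The coroot is primitive. -/
theorem eq_zero_of_coroot {r : ℕ} (hr : r < D.nroots) {a : F}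
    (h : ∀ i : Fin D.rank, (((D.coroot.getD r #[]).getD i 0 : ℤ) : F) * a = 0) : a = 0 := by
  have hb := hF.r.bez r hr
  rw [sumZ_eq] at hb
  have hb2 := congrArg (fun z : ℤ => (z : F) * a) hb
  simp only [Int.cast_sum, Int.cast_mul, Int.cast_one, one_mul, Finset.sum_mul] at hb2
  rw [← hb2]
  apply Finset.sum_eq_zero
  intro i hi
  rw [mul_assoc, h ⟨i, Finset.mem_range.1 hi⟩, mul_zero]

theorem lev_neg {r : ℕ} (hr : r < D.nroots) (i : Fin D.rank) :
    (ℓ (Sum.inl i) : ℤ) = ℓ (Sum.inr ⟨D.neg r, hF.neg_lt hr⟩) + R.lin D.rank hF.phiW r := by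
  have h7 := hℓ (Sum.inl i)
  have h8 := hℓ (Sum.inr ⟨D.neg r, hF.neg_lt hr⟩)
  rw [gr_inl] at h7
  rw [gr_inr] at h8
  have h9 : R.lin D.rank hF.phiW (D.neg r) = - R.lin D.rank hF.phiW r := hF.lin_neg _ hr
  simp only at h8
  rw [h9] at h8
  omega

end Grad

include hF

theorem lin_wf {j r : ℕ} (hj : j < D.rank) (hr : r < D.nroots) :
    R.lin D.rank hF.phiW (X.wf j r) = R.lin D.rank hF.phiW r - D.cartan j r * hF.phiW j := by
  unfold RootTab.lin
  have h1 : ∀ i ∈ Finset.range D.rank, hF.phiW i * R.rcAt (X.wf j r) i =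
      hF.phiW i * R.rcAt r i - (if i = j then D.cartan j r * hF.phiW j else 0) := by
    intro i hi
    rw [hF.wf_rc hj hr (Finset.mem_range.1 hi)]
    by_cases hij : i = j
    · subst hij
      simp only [if_true]
      ring
    · simp only [hij, if_false]
      ring
  rw [Finset.sum_congr rfl h1, Finset.sum_sub_distrib]
  congr 1
  rw [Finset.sum_ite_eq' (Finset.range D.rank) j, if_pos (Finset.mem_range.2 hj)]

/-- `n_j x_r n_j⁻¹` cannot be a `B`-conjugate of `x_r` if `w_j` lowers `r`. -/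
theorem no_conj {b : GL D.Idx F} (hb : b ∈ D.borelSubgroup F) {j r : ℕ} (hj : j < D.rank) (hr : r < D.nroots)
    (hpos : R.N ≤ r) (hc : 0 < D.cartan j r) {η t : F} (hη : η ≠ 0)
    (h : hF.c.xG (X.wf j r) η = b * hF.c.xG r t * b⁻¹) : False := by
  obtain ⟨ℓ, d, M, hd, hℓ⟩ := Full.exists_lev R D hF.phiW
  have hlin := hF.phi_pos hr hpos
  obtain ⟨k, hk⟩ : ∃ k : ℕ, (k : ℤ) = R.lin D.rank hF.phiW r := ⟨(R.lin D.rank hF.phiW r).toNat, by omega⟩
  have h1 : D.x F r t - 1 ∈ J ℓ k := x_sub_one_mem hF hℓ hr hpos t (by omega)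
  have hb1 : (b : Matrix D.Idx D.Idx F) ∈ J ℓ 0 := borel_le_Tri' hF hℓ hb
  have hb2 : ((b⁻¹ : GL D.Idx F) : Matrix D.Idx D.Idx F) ∈ J ℓ 0 :=
    (borel_le_Tri' hF hℓ (Subgroup.inv_mem _ hb))
  have h2 : (b : Matrix D.Idx D.Idx F) * (D.x F r t - 1) * ((b⁻¹ : GL D.Idx F) : Matrix D.Idx D.Idx F) ∈ J ℓ (0 + k + 0) :=
    J_mul (J_mul hb1 h1) hb2
  have h3 : (b : Matrix D.Idx D.Idx F) * (D.x F r t - 1) * ((b⁻¹ : GL D.Idx F) : Matrix D.Idx D.Idx F) =
      D.x F (X.wf j r) η - 1 := by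
    have h4 := congrArg (fun g : GL D.Idx F => (g : Matrix D.Idx D.Idx F)) h
    simp only [Checks.coe_xG, Units.val_mul] at h4
    rw [h4, mul_sub, sub_mul, mul_one]
    congr 1
    show (b : Matrix D.Idx D.Idx F) * ((b⁻¹ : GL D.Idx F) : Matrix D.Idx D.Idx F) = 1
    rw [← Units.val_mul, mul_inv_cancel, Units.val_one]
  rw [h3] at h2
  have hw : X.wf j r < D.nroots := hF.wf_lt hj hr
  apply hη
  apply eq_zero_of_coroot hF hw
  intro i
  have hlt : R.lin D.rank hF.phiW (X.wf j r) < k := by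
    rw [lin_wf hF hj hr, hk]
    have : 0 < hF.phiW j := by positivity
    nlinarith
  have h5 := h2 (Sum.inl i) (Sum.inr ⟨D.neg (X.wf j r), hF.neg_lt hw⟩) (by
    have := lev_neg hF hℓ hw i
    omega)
  rw [Matrix.sub_apply, Matrix.one_apply_ne (by simp), sub_zero, hF.x_entry_coroot hw] at h5
  exact h5

/-- An element `u h` of `B` commuting with `x_r(1)` has `χ_r(h) = 1`. -/
theorem chi_eq_one {u : GL D.Idx F} (hu : u ∈ D.posUnipotent F) (c : Fin D.rank → Fˣ) {r : ℕ} (hr : r < D.nroots)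
    (hpos : R.N ≤ r)
    (h : (u * tor R D c) * hF.c.xG r 1 * (u * tor R D c)⁻¹ = hF.c.xG r 1) : chiT D c r = 1 := by
  obtain ⟨ℓ, d, M, hd, hℓ⟩ := Full.exists_lev R D hF.phiW
  have hlin := hF.phi_pos hr hpos
  obtain ⟨k, hk⟩ : ∃ k : ℕ, (k : ℤ) = R.lin D.rank hF.phiW r := ⟨(R.lin D.rank hF.phiW r).toNat, by omega⟩
  set χ : F := ((chiT D c r : Fˣ) : F) with hχ
  have h1 : u * hF.c.xG r χ * u⁻¹ = hF.c.xG r 1 := by
    have h2 := hF.tor_conj_xG c hr (1 : F)
    rw [mul_one] at h2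
    rw [← h, ← h2]
    group
  have hW : (u : Matrix D.Idx D.Idx F) - 1 ∈ J ℓ 1 := U_le_UT hF hd hℓ hu
  have hW' : ((u⁻¹ : GL D.Idx F) : Matrix D.Idx D.Idx F) - 1 ∈ J ℓ 1 :=
    U_le_UT hF hd hℓ (Subgroup.inv_mem _ hu)
  have hA : D.x F r χ - 1 ∈ J ℓ k := x_sub_one_mem hF hℓ hr hpos χ (by omega)
  have hkey : D.x F r 1 - D.x F r χ ∈ J ℓ (k + 1) := by
    have h2 := congrArg (fun g : GL D.Idx F => (g : Matrix D.Idx D.Idx F)) h1
    simp only [Checks.coe_xG, Units.val_mul] at h2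
    set W := (u : Matrix D.Idx D.Idx F) - 1 with hWdef
    set W' := ((u⁻¹ : GL D.Idx F) : Matrix D.Idx D.Idx F) - 1 with hW'def
    set A := D.x F r χ - 1 with hAdef
    have hu1 : (u : Matrix D.Idx D.Idx F) = 1 + W := by rw [hWdef]; abel
    have hu2 : ((u⁻¹ : GL D.Idx F) : Matrix D.Idx D.Idx F) = 1 + W' := by rw [hW'def]; abel
    have hx : D.x F r χ = 1 + A := by rw [hAdef]; abel
    have huu : (1 + W) * (1 + W') = 1 := by
      rw [← hu1, ← hu2, ← Units.val_mul, mul_inv_cancel, Units.val_one]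
    have h3 : D.x F r 1 - D.x F r χ = W * A + A * W' + W * A * W' := by
      rw [← h2, hx, hu1, hu2]
      have h4 : (1 + W) * (1 + A) * (1 + W') = (1 + W) * (1 + W') + (A + W * A + A * W' + W * A * W') := by
        noncomm_ring
      rw [h4, huu]
      abel
    rw [h3]
    have e1 : W * A ∈ J ℓ (k + 1) := by
      have := J_mul hW hA
      rwa [add_comm] at this
    have e2 : A * W' ∈ J ℓ (k + 1) := J_mul hA hW'
    have e3 : W * A * W' ∈ J ℓ (k + 1) := by
      have := J_mul (J_mul hW hA) hW'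
      exact J_anti (by omega) this
    exact J_add (J_add e1 e2) e3
  have h1χ : (1 : F) - χ = 0 := by
    apply eq_zero_of_coroot hF hr
    intro i
    have h5 := hkey (Sum.inl i) (Sum.inr ⟨D.neg r, hF.neg_lt hr⟩) (by
      have := lev_neg hF hℓ hr i
      omega)
    rw [Matrix.sub_apply, hF.x_entry_coroot hr, hF.x_entry_coroot hr] at h5
    rw [mul_sub, ← h5]
  apply Units.ext
  rw [Units.val_one]
  exact (sub_eq_zero.1 h1χ).symm

/-- If the characters of `c` vanish on all roots with a positive coefficient at `k`, then `tor c = 1`. -/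
theorem tor_eq_one (c : Fin D.rank → Fˣ) {k : ℕ} (hk : k < D.rank)
    (hrc : ∀ i < D.rank, ∀ l < D.rank, R.rcAt (D.simple i) l = if l = i then 1 else 0)
    (hT : ∀ j < D.rank, j ≠ k → ∃ r < D.nroots, ∃ r' < D.nroots, 0 < R.rcAt r k ∧ 0 < R.rcAt r' k ∧
      ∀ l < D.rank, R.rcAt r' l = R.rcAt r l + (if l = j then 1 else 0))
    (hχ : ∀ r < D.nroots, 0 < R.rcAt r k → chiT D c r = 1) : tor R D c = 1 := by
  have hv : ∀ j < D.rank, cartanMap D c j = 1 := by
    have hsimple : ∀ i < D.rank, chiT D c (D.simple i) = cartanMap D c i := fun i _ => rfl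
    intro j hj
    by_cases hjk : j = k
    · subst hjk
      rw [← hsimple j hj]
      apply hχ _ (hF.simple_lt hj)
      rw [hrc j hj j hj]
      simp
    · obtain ⟨r, hr, r', hw, hr0, hr1, hcar⟩ := hT j hj hjk
      have h1 := hχ r hr hr0
      have h2 := hχ r' hw hr1
      rw [hF.chiT_eq_chr c hr] at h1
      rw [hF.chiT_eq_chr c hw] at h2
      unfold chr at h1 h2
      have h3 : ∏ l ∈ Finset.range D.rank, cartanMap D c l ^ R.rcAt r' l =
          (∏ l ∈ Finset.range D.rank, cartanMap D c l ^ R.rcAt r l) * cartanMap D c j := by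
        have h4 : ∀ l ∈ Finset.range D.rank, cartanMap D c l ^ R.rcAt r' l =
            cartanMap D c l ^ R.rcAt r l * (if l = j then cartanMap D c j else 1) := by
          intro l hl
          rw [hcar l (Finset.mem_range.1 hl)]
          by_cases hlj : l = j
          · subst hlj
            simp only [if_true]
            rw [_root_.zpow_add, zpow_one]
          · simp [hlj]
        rw [Finset.prod_congr rfl h4, Finset.prod_mul_distrib, Finset.prod_ite_eq' (Finset.range D.rank) j,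
          if_pos (Finset.mem_range.2 hj)]
      rw [h3, h1, one_mul] at h2
      exact h2
  unfold tor
  apply Units.ext
  rw [coe_diagG, Units.val_one, ← Matrix.diagonal_one]
  congr 1
  funext a
  cases a with
  | inl i => rfl
  | inr s =>
    simp only [Sum.elim_inr, Pi.one_apply]
    have h5 : chr R D.rank (cartanMap D c) s = 1 := by
      unfold chr
      apply Finset.prod_eq_one
      intro l hl
      rw [hv l (Finset.mem_range.1 hl), _root_.one_zpow]
    rw [h5, Units.val_one]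

theorem isPGroup_U' [Fintype F] (p : ℕ) [Fact p.Prime] [CharP F p] : IsPGroup p ↥(D.posUnipotent F) := by
  obtain ⟨n, hp, hn⟩ := FiniteField.card F p
  apply IsPGroup.of_card (n := n * R.N)
  rw [hF.card_U_fintype, hn, pow_mul]

/-- The centraliser of `U_J` in `P_J` lies in `U`. -/
theorem centralizer_le_U [Finite F] (hC : Conn D)
    (hrc : ∀ i < D.rank, ∀ l < D.rank, R.rcAt (D.simple i) l = if l = i then 1 else 0)
    (hT1 : ∀ j < D.rank, ∀ k < D.rank, ∃ r < D.nroots, R.N ≤ r ∧ 0 < R.rcAt r k ∧ 0 < D.cartan j r)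
    (hT2 : ∀ j < D.rank, ∀ k < D.rank, j ≠ k → ∃ r < D.nroots, ∃ r' < D.nroots, 0 < R.rcAt r k ∧ 0 < R.rcAt r' k ∧
      ∀ l < D.rank, R.rcAt r' l = R.rcAt r l + (if l = j then 1 else 0))
    {J : Set ℕ} {k : ℕ} (hk : k < D.rank) (hkJ : k ∉ J)
    (UJ : Subgroup ↥(D.parabolicSubgroup F J)) (hUJ : UJ = (D.unipotentRadical F J).subgroupOf (D.parabolicSubgroup F J))
    [hUJn : UJ.Normal] (x : ↥(D.parabolicSubgroup F J)) (hx : x ∈ Subgroup.centralizer (UJ : Set ↥(D.parabolicSubgroup F J))) :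
    (x : GL D.Idx F) ∈ D.posUnipotent F := by
  classical
  have hUJP : D.unipotentRadical F J ≤ D.parabolicSubgroup F J := by
    rw [← hF.radical_sup_levi J]
    exact le_sup_left
  have hmemU : ∀ {r : ℕ}, r < D.nroots → 0 < R.rcAt r k → ∀ t : F, ∃ e : ↥(D.parabolicSubgroup F J), e ∈ UJ ∧ (e : GL D.Idx F) = hF.c.xG r t := by
    intro r hr hrk t
    have h1 : hF.c.xG r t ∈ D.unipotentRadical F J := by
      rw [unipotentRadical_eq]
      exact hF.xG_mem_rootClosure (hF.QU_of_rc hr hk hkJ hrk) t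
    refine ⟨⟨_, hUJP h1⟩, ?_, rfl⟩
    rw [hUJ]
    exact h1
  have hPG : D.parabolicSubgroup F J ≤ D.group F := hF.parabolic_le_group J
  let BX : Subgroup ↥(D.parabolicSubgroup F J) := (D.borelSubgroup F).subgroupOf (D.parabolicSubgroup F J)
  let Cn : Subgroup ↥(D.parabolicSubgroup F J) := Subgroup.centralizer (UJ : Set ↥(D.parabolicSubgroup F J))
  haveI hCn : Cn.Normal := Subgroup.normal_centralizer (H := UJ)
  let L : Subgroup ↥(D.group F) := ((BX ⊔ Cn).map (D.parabolicSubgroup F J).subtype).comap (D.group F).subtype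
  have hBL : (hF.bnPair F).B ≤ L := by
    intro b hb
    have hb' : (b : GL D.Idx F) ∈ D.borelSubgroup F := hb
    exact ⟨⟨b.1, hF.borel_le_parabolic J hb'⟩, Subgroup.mem_sup_left hb', rfl⟩
  have hpar := Cfsg.Agent.Lib.BNPair.eq_parabolic hBL
  have hxB : (x : GL D.Idx F) ∈ D.borelSubgroup F := by
    by_cases hne : {s | s ∈ (hF.bnPair F).S ∧ s ∈ L}.Nonempty
    · exfalso
      obtain ⟨s, ⟨j, hj, hs⟩, hsL⟩ := hne
      have hs' : s.1 = hF.nS j := (hF.S_iff).1 hs
      obtain ⟨y, hy, hys⟩ := hsL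
      obtain ⟨b, hb, m, hm, rfl⟩ := Subgroup.mem_sup_of_normal_right.1 hy
      obtain ⟨r, hr, hpos, hrk, hcar⟩ := hT1 j hj k hk
      obtain ⟨e, he, hev⟩ := hmemU hr hrk (1 : F)
      have hcomm : e * m = m * e := (Subgroup.mem_centralizer_iff.1 hm) e he
      have h1 : hF.nS j * hF.c.xG r 1 * (hF.nS j)⁻¹ = (b : GL D.Idx F) * hF.c.xG r 1 * (b : GL D.Idx F)⁻¹ := by
        have h2 : hF.nS j = (b : GL D.Idx F) * (m : GL D.Idx F) := by
          rw [← hs']
          exact hys.symm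
        have h3 : (e : GL D.Idx F) * (m : GL D.Idx F) = (m : GL D.Idx F) * (e : GL D.Idx F) :=
          congrArg Subtype.val hcomm
        rw [hev] at h3
        rw [h2, mul_assoc (b : GL D.Idx F) (m : GL D.Idx F), ← h3]
        group
      rw [hF.nS_conj_xG hj hr] at h1
      exact no_conj hF hb hj hr hpos hcar (by
        rw [mul_one]
        exact hF.eta_ne hj hr) h1
    · rw [Set.not_nonempty_iff_eq_empty] at hne
      have hLB : L ≤ (hF.bnPair F).B := by
        rw [hpar, hne]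
        simp [Cfsg.BNPair.parabolic]
      have h1 : (⟨x.1, hPG x.2⟩ : ↥(D.group F)) ∈ L := ⟨x, Subgroup.mem_sup_right hx, rfl⟩
      exact hLB h1
  obtain ⟨u, hu, h, hh, hxe⟩ := hF.mem_borel_iff.1 hxB
  obtain ⟨c, rfl⟩ := hF.mem_diagonal_iff.1 hh
  have hχ : ∀ r < D.nroots, 0 < R.rcAt r k → chiT D c r = 1 := by
    intro r hr hrk
    obtain ⟨e, he, hev⟩ := hmemU hr hrk (1 : F)
    have hcomm : e * x = x * e := (Subgroup.mem_centralizer_iff.1 hx) e he
    have h3 : (e : GL D.Idx F) * (x : GL D.Idx F) = (x : GL D.Idx F) * (e : GL D.Idx F) :=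
      congrArg Subtype.val hcomm
    rw [hev, hxe] at h3
    apply chi_eq_one hF hu c hr (hF.pos_of_rc_pos hr hk hrk)
    rw [← h3]
    group
  have h1 := tor_eq_one hF c hk hrc (fun j hj hjk => hT2 j hj k hk hjk) hχ
  rw [hxe, h1, mul_one]
  exact hu

theorem T2_of_wf (h : ∀ j < D.rank, ∀ k < D.rank, j ≠ k → ∃ r < D.nroots, R.N ≤ r ∧ 0 < R.rcAt r k ∧ D.cartan j r = -1) :
    ∀ j < D.rank, ∀ k < D.rank, j ≠ k → ∃ r < D.nroots, ∃ r' < D.nroots, 0 < R.rcAt r k ∧ 0 < R.rcAt r' k ∧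
      ∀ l < D.rank, R.rcAt r' l = R.rcAt r l + (if l = j then 1 else 0) := by
  intro j hj k hk hjk
  obtain ⟨r, hr, -, hr0, hcar⟩ := h j hj k hk hjk
  refine ⟨r, hr, X.wf j r, hF.wf_lt hj hr, hr0, ?_, ?_⟩
  · rw [hF.wf_rc hj hr hk, if_neg (Ne.symm hjk)]
    omega
  · intro l hl
    rw [hF.wf_rc hj hr hl]
    by_cases hlj : l = j
    · simp [hlj, hcar]
    · simp [hlj]

/-- `F*(P_J)` is a `p`-group. -/
theorem fstar_main [Fintype F] (p : ℕ) [Fact p.Prime] [CharP F p] (hC : Conn D)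
    (hrc : ∀ i < D.rank, ∀ l < D.rank, R.rcAt (D.simple i) l = if l = i then 1 else 0)
    (hT1 : ∀ j < D.rank, ∀ k < D.rank, ∃ r < D.nroots, R.N ≤ r ∧ 0 < R.rcAt r k ∧ 0 < D.cartan j r)
    (hT2 : ∀ j < D.rank, ∀ k < D.rank, j ≠ k → ∃ r < D.nroots, ∃ r' < D.nroots, 0 < R.rcAt r k ∧ 0 < R.rcAt r' k ∧
      ∀ l < D.rank, R.rcAt r' l = R.rcAt r l + (if l = j then 1 else 0))
    {J : Set ℕ} {k : ℕ} (hk : k < D.rank) (hkJ : k ∉ J) :
    IsPGroup p ↥(generalizedFittingSubgroup ↥(D.parabolicSubgroup F J)) := by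
  classical
  set P := D.parabolicSubgroup F J with hP
  have hU := isPGroup_U' hF (F := F) p
  have hpg : ∀ K : Subgroup ↥P, (∀ x ∈ K, (x : GL D.Idx F) ∈ D.posUnipotent F) → IsPGroup p K := by
    rintro K hK ⟨x, hx⟩
    obtain ⟨n, hn⟩ := hU ⟨x.1, hK x hx⟩
    refine ⟨n, ?_⟩
    apply Subtype.ext
    apply Subtype.ext
    have := congrArg Subtype.val hn
    simpa using this
  let UJ : Subgroup ↥P := (D.unipotentRadical F J).subgroupOf P
  haveI hUJn : UJ.Normal := by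
    constructor
    intro n hn g
    have h1 := hF.parabolic_le_normalizer J g.2
    exact (Subgroup.mem_normalizer_iff.1 h1 n.1).1 hn
  have hcen := centralizer_le_U hF hC hrc hT1 hT2 hk hkJ UJ rfl (hUJn := hUJn)
  have h1 : UJ ≤ pCore p ↥P := Cfsg.Agent.Lib.PCore.le_pCore hUJn (hpg UJ (fun x hx => hF.radical_le_U J hx))
  have h2 : Subgroup.centralizer (UJ : Set ↥P) ≤ pCore p ↥P :=
    Cfsg.Agent.Lib.PCore.le_pCore (Subgroup.normal_centralizer (H := UJ)) (hpg _ hcen)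
  have h3 : Subgroup.centralizer (pCore p ↥P : Set ↥P) ≤ pCore p ↥P :=
    (Subgroup.centralizer_le h1).trans h2
  have h4 := Cfsg.Agent.Lib.CharTwoLocal.generalizedFitting_eq_pCore h3
  rw [h4]
  exact Cfsg.Agent.Lib.PCore.isPGroup_pCore p

end Cfsg.Agent.Lib.ChevAut.ParabFit
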