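import Mathlib
import Cfsg.Agent.Lib.ChevAut.ParabFit

/-!
# Pairs of conjugates of the highest root subgroup

For `g` in a Chevalley group and `X` the highest root subgroup, `⟨X, X^g⟩` is a `p`-group or conjugate to
`⟨X, X_{-top}⟩` (Bruhat decomposition, `B` normalises `X`, `N` permutes the root subgroups, and two
non-opposite roots lie in an open half space).
-/

set_option autoImplicit false
set_option linter.unusedSectionVars false
set_option linter.unusedVariables false
set_option linter.unnecessarySimpa false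

namespace Cfsg.Agent.Lib.ChevAut.LongRoot

open Cfsg Cfsg.Lie Matrix Cfsg.Agent.Lib.Chev Cfsg.Agent.Lib.Chev.Full Cfsg.Agent.Lib.Chev.Tri

variable {F : Type*} [Field F]

section general

variable {ι : Type*} [Fintype ι] [DecidableEq ι] {ℓ : ι → ℕ} {d : ℕ}

/-- A group of unitriangular matrices in characteristic `p` is a `p`-group. -/
theorem isPGroup_UT (hd : ∀ i, ℓ i < d) (p : ℕ) [Fact p.Prime] [CharP F p] :
    IsPGroup p ↥(UT (F := F) ℓ 0 d hd) := by
  rintro ⟨g, hg⟩
  have hA : (g : Matrix ι ι F) - 1 ∈ J ℓ 1 := by simpa using mem_UT.1 hg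
  set A : Matrix ι ι F := (g : Matrix ι ι F) - 1 with hAdef
  have hpow : ∀ n : ℕ, A ^ n ∈ J ℓ n := by
    intro n
    induction n with
    | zero => simpa using J_one_mem_zero (ℓ := ℓ) (F := F)
    | succ n ih =>
      rw [pow_succ]
      exact J_mul ih hA
  have h0 : ∀ n, d ≤ n → A ^ n = 0 := by
    intro n hn
    ext i j
    exact hpow n i j (by have := hd i; omega)
  obtain ⟨k, hk⟩ : ∃ k : ℕ, d ≤ p ^ k := ⟨d, (Nat.lt_pow_self (Fact.out : p.Prime).one_lt).le⟩
  refine ⟨k, ?_⟩
  apply Subtype.ext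
  apply Units.ext
  rcases isEmpty_or_nonempty ι with hι | hι
  · exact Subsingleton.elim _ _
  · have h1 : (g : Matrix ι ι F) = A + 1 := by rw [hAdef]; abel
    have h2 : (A + 1) ^ p ^ k = A ^ p ^ k + 1 ^ p ^ k :=
      add_pow_char_pow_of_commute p k (Commute.one_right A)
    show ((g ^ p ^ k : GL ι F) : Matrix ι ι F) = 1
    rw [Units.val_pow_eq_pow_val, h1, h2, h0 _ hk, zero_add, one_pow]

end general

variable {T : Tabs} {X : Extra} {R : RootTab} {D : ChevalleyDatum} (hF : Full T X R D)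

include hF in
/-- The entries of `x_s(t) - 1` raise the level attached to a linear form positive on `s`. -/
theorem x_sub_one_mem_lin {a : ℕ → ℤ} {ℓ : D.Idx → ℕ} {M : ℤ} (hℓ : ∀ b, (ℓ b : ℤ) = gr R D a b + M)
    {s : ℕ} (hs : s < D.nroots) (hpos : 0 < R.lin D.rank a s) (t : F) : D.x F s t - 1 ∈ J ℓ 1 := by
  intro i j hij
  by_cases hne : i = j
  · subst hne
    simp [Matrix.sub_apply, hF.x_entry_self hs t i]
  · rw [Matrix.sub_apply, Matrix.one_apply_ne hne, sub_zero]
    by_contra h0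
    obtain ⟨c, hc, h1⟩ := hF.x_entry_ne hs hne h0
    have h2 := hF.gr_add a h1
    have h5 : (1 : ℤ) ≤ c := by exact_mod_cast hc
    have h6 : (1 : ℤ) ≤ (c : ℤ) * R.lin D.rank a s := by nlinarith
    have h7 := hℓ i
    have h8 := hℓ j
    omega

include hF in
/-- Root elements for roots in an open half space generate a `p`-group. -/
theorem closure_lin_isPGroup (p : ℕ) [Fact p.Prime] [CharP F p] (a : ℕ → ℤ) {Q : ℕ → Prop}
    (hQ : ∀ s, Q s → s < D.nroots ∧ 0 < R.lin D.rank a s) : IsPGroup p ↥(rootClosure D F Q) := by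
  obtain ⟨ℓ, d, M, hd, hℓ⟩ := Full.exists_lev R D a
  have hle : rootClosure D F Q ≤ UT (F := F) ℓ 0 d hd := by
    rw [rootClosure, Subgroup.closure_le]
    rintro g ⟨s, t, hs, hg⟩
    rw [SetLike.mem_coe, mem_UT, hg]
    exact x_sub_one_mem_lin hF hℓ (hQ s hs).1 (hQ s hs).2 t
  exact (isPGroup_UT hd p).to_le hle

theorem lin_two {i j : ℕ} (hi : i < D.rank) (hj : j < D.rank) (hij : i ≠ j) (A B : ℤ) (r : ℕ) :
    R.lin D.rank (fun k => if k = i then A else if k = j then B else 0) r =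
      A * R.rcAt r i + B * R.rcAt r j := by
  unfold RootTab.lin
  have h1 : ∀ k ∈ Finset.range D.rank, (if k = i then A else if k = j then B else 0) * R.rcAt r k =
      (if k = i then A * R.rcAt r k else 0) + (if k = j then B * R.rcAt r k else 0) := by
    intro k _
    by_cases h1 : k = i
    · subst h1
      simp [hij]
    · by_cases h2 : k = j
      · subst h2
        simp [h1]
      · simp [h1, h2]
  rw [Finset.sum_congr rfl h1, Finset.sum_add_distrib, Finset.sum_ite_eq' (Finset.range D.rank) i,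
    Finset.sum_ite_eq' (Finset.range D.rank) j, if_pos (Finset.mem_range.2 hi), if_pos (Finset.mem_range.2 hj)]

/-- Two roots with non-proportional coordinates are positive on a common linear form. -/
theorem exists_lin_of_det {r s i j : ℕ} (hi : i < D.rank) (hj : j < D.rank)
    (hdet : R.rcAt r i * R.rcAt s j - R.rcAt r j * R.rcAt s i ≠ 0) :
    ∃ a : ℕ → ℤ, 0 < R.lin D.rank a r ∧ 0 < R.lin D.rank a s := by
  have hij : i ≠ j := by
    rintro rfl
    apply hdet
    ring
  set Δ := R.rcAt r i * R.rcAt s j - R.rcAt r j * R.rcAt s i with hΔ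
  rcases lt_or_gt_of_ne hdet with h | h
  · refine ⟨fun k => if k = i then -(R.rcAt s j - R.rcAt r j) else if k = j then -(R.rcAt r i - R.rcAt s i) else 0, ?_, ?_⟩
    · rw [lin_two hi hj hij]
      have : -(R.rcAt s j - R.rcAt r j) * R.rcAt r i + -(R.rcAt r i - R.rcAt s i) * R.rcAt r j = -Δ := by
        rw [hΔ]; ring
      omega
    · rw [lin_two hi hj hij]
      have : -(R.rcAt s j - R.rcAt r j) * R.rcAt s i + -(R.rcAt r i - R.rcAt s i) * R.rcAt s j = -Δ := by
        rw [hΔ]; ring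
      omega
  · refine ⟨fun k => if k = i then (R.rcAt s j - R.rcAt r j) else if k = j then (R.rcAt r i - R.rcAt s i) else 0, ?_, ?_⟩
    · rw [lin_two hi hj hij]
      have : (R.rcAt s j - R.rcAt r j) * R.rcAt r i + (R.rcAt r i - R.rcAt s i) * R.rcAt r j = Δ := by
        rw [hΔ]; ring
      omega
    · rw [lin_two hi hj hij]
      have : (R.rcAt s j - R.rcAt r j) * R.rcAt s i + (R.rcAt r i - R.rcAt s i) * R.rcAt s j = Δ := by
        rw [hΔ]; ring
      omega

include hF

theorem rootClosure_eq_rootSubgroup (r : ℕ) : rootClosure D F (fun s => s = r) = D.rootSubgroup F r := by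
  unfold rootClosure ChevalleyDatum.rootSubgroup
  congr 1
  ext g
  constructor
  · rintro ⟨s, t, rfl, h⟩
    exact ⟨t, h⟩
  · rintro ⟨t, h⟩
    exact ⟨r, t, rfl, h⟩

/-- Negatives of positive roots are not positive. -/
theorem neg_ne_of_pos {r s : ℕ} (hr : r < D.nroots) (hrp : R.N ≤ r) (hsp : R.N ≤ s) : s ≠ D.neg r := by
  rintro rfl
  have h1 := hF.lin_neg hF.phiW hr
  have h2 := hF.phi_pos hr hrp
  have h3 := hF.phi_pos (hF.neg_lt hr) hsp
  omega

/-- The Borel subgroup normalises the highest root subgroup. -/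
theorem borel_le_normalizer_top {top : ℕ} (htop : top < D.nroots) (hmax : ∀ s < D.nroots, s ≤ top)
    (hpos : R.N ≤ top) : D.borelSubgroup F ≤ Subgroup.normalizer (D.rootSubgroup F top : Set (GL D.Idx F)) := by
  apply sup_le
  · unfold ChevalleyDatum.posUnipotent
    rw [Subgroup.closure_le]
    rintro g ⟨s, t, hs, hg⟩
    obtain ⟨hs1, hs2⟩ := (hF.isPos_iff).1 hs
    rw [SetLike.mem_coe, hF.c.eq_xG hg, ← rootClosure_eq_rootSubgroup hF]
    apply hF.xG_mem_normalizer hs1
    · rintro s' rfl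
      exact ⟨htop, neg_ne_of_pos hF hs1 hs2 hpos⟩
    · rintro s' rfl hne c hc
      have h1 := hF.commTerm_pos hs1 htop hne (neg_ne_of_pos hF hs1 hs2 hpos) hc hs2 hpos
      have h2 := (hF.commTerms_spec hs1 htop hne (neg_ne_of_pos hF hs1 hs2 hpos) hc).1
      have h3 := hmax _ h2
      omega
  · intro h hh
    obtain ⟨c, rfl⟩ := (hF.mem_diagonal_iff).1 hh
    rw [Subgroup.mem_set_normalizer_iff]
    intro y
    rw [SetLike.mem_coe, SetLike.mem_coe, hF.c.mem_rootSubgroup_iff, hF.c.mem_rootSubgroup_iff]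
    constructor
    · rintro ⟨t, rfl⟩
      exact ⟨_, hF.tor_conj_xG c htop t⟩
    · rintro ⟨t, ht⟩
      refine ⟨((chiT D c top : Fˣ) : F)⁻¹ * t, ?_⟩
      have h2 := hF.tor_conj_xG c htop (((chiT D c top : Fˣ) : F)⁻¹ * t)
      rw [← mul_assoc, mul_inv_cancel₀ (Units.ne_zero _), one_mul, ← ht] at h2
      have h3 := mul_left_cancel (mul_right_cancel h2)
      exact h3.symm

omit hF in
theorem map_conj_mul {G : Type*} [Group G] (K : Subgroup G) (a c : G) :
    K.map (MulAut.conj (a * c)).toMonoidHom = (K.map (MulAut.conj c).toMonoidHom).map (MulAut.conj a).toMonoidHom := by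
  rw [Subgroup.map_map]
  congr 1
  ext x
  simp [MulAut.conj_apply, mul_assoc]

omit hF in
theorem map_conj_of_normalizer {G : Type*} [Group G] {K : Subgroup G} {b : G}
    (hb : b ∈ Subgroup.normalizer (K : Set G)) : K.map (MulAut.conj b).toMonoidHom = K := by
  ext y
  rw [Subgroup.mem_map]
  have hb' := Subgroup.mem_set_normalizer_iff.1 hb
  constructor
  · rintro ⟨x, hx, rfl⟩
    exact (hb' x).1 hx
  · intro hy
    refine ⟨b⁻¹ * y * b, ?_, ?_⟩
    · have e : b * (b⁻¹ * y * b) * b⁻¹ = y := by group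
      exact (hb' (b⁻¹ * y * b)).2 (by rw [e]; exact hy)
    · show b * (b⁻¹ * y * b) * b⁻¹ = y
      group

/-- `N` permutes the root subgroups. -/
theorem map_conj_monomial (n : ↥(D.monomialSubgroup F)) (s : Fin D.nroots) :
    (D.rootSubgroup F s).map (MulAut.conj n.1).toMonoidHom = D.rootSubgroup F (hF.rhoN F n s) := by
  obtain ⟨u, hu⟩ := hF.rhoN_spec_apply n s
  ext y
  rw [Subgroup.mem_map, hF.c.mem_rootSubgroup_iff]
  constructor
  · rintro ⟨x, hx, rfl⟩
    obtain ⟨t, rfl⟩ := hF.c.mem_rootSubgroup_iff.1 hx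
    exact ⟨_, hu t⟩
  · rintro ⟨t, rfl⟩
    refine ⟨hF.c.xG s ((u : F)⁻¹ * t), hF.c.xG_mem_rootSubgroup _ _, ?_⟩
    show n.1 * hF.c.xG s ((u : F)⁻¹ * t) * n.1⁻¹ = _
    rw [hu, ← mul_assoc, mul_inv_cancel₀ (Units.ne_zero _), one_mul]

/-- The main dichotomy. -/
theorem pair_dichotomy (p : ℕ) [Fact p.Prime] [CharP F p] {top : ℕ} (htop : top < D.nroots)
    (hmax : ∀ s < D.nroots, s ≤ top) (hpos : R.N ≤ top)
    (htab : ∀ s < D.nroots, s = top ∨ s = D.neg top ∨ ∃ i < D.rank, ∃ j < D.rank,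
      R.rcAt top i * R.rcAt s j - R.rcAt top j * R.rcAt s i ≠ 0)
    {g : GL D.Idx F} (hg : g ∈ D.group F) :
    IsPGroup p ↥(D.rootSubgroup F top ⊔ (D.rootSubgroup F top).map (MulAut.conj g).toMonoidHom) ∨
    ∃ h ∈ D.group F, (D.rootSubgroup F top ⊔ (D.rootSubgroup F top).map (MulAut.conj g).toMonoidHom).map
      (MulAut.conj h).toMonoidHom = D.rootSubgroup F top ⊔ D.rootSubgroup F (D.neg top) := by
  obtain ⟨n, hn, hg'⟩ := Cfsg.Agent.Lib.BNPair.exists_mem_dc (P := hF.bnPair F) (⟨g, hg⟩ : ↥(D.group F))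
  obtain ⟨b, hb, b', hb', e⟩ := Cfsg.Agent.Lib.BNPair.mem_dc.1 hg'
  have hb1 : b.1 ∈ D.borelSubgroup F := Subgroup.mem_subgroupOf.1 hb
  have hb2 : b'.1 ∈ D.borelSubgroup F := Subgroup.mem_subgroupOf.1 hb'
  have hn1 : n.1 ∈ D.monomialSubgroup F := Subgroup.mem_subgroupOf.1 hn
  have e' : g = b.1 * n.1 * b'.1 := congrArg Subtype.val e
  set nn : ↥(D.monomialSubgroup F) := ⟨n.1, hn1⟩ with hnn
  set s : Fin D.nroots := hF.rhoN F nn ⟨top, htop⟩ with hs
  have hnorm := borel_le_normalizer_top (F := F) hF htop hmax hpos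
  have hX1 : (D.rootSubgroup F top).map (MulAut.conj b.1).toMonoidHom = D.rootSubgroup F top :=
    map_conj_of_normalizer (hnorm hb1)
  have hX2 : (D.rootSubgroup F top).map (MulAut.conj b'.1).toMonoidHom = D.rootSubgroup F top :=
    map_conj_of_normalizer (hnorm hb2)
  have hX3 := map_conj_monomial hF nn ⟨top, htop⟩
  have hmap : (D.rootSubgroup F top).map (MulAut.conj g).toMonoidHom =
      (D.rootSubgroup F (s : ℕ)).map (MulAut.conj b.1).toMonoidHom := by
    rw [e', hs, ← hX3, map_conj_mul, map_conj_mul, hX2]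
  have hsup : D.rootSubgroup F top ⊔ (D.rootSubgroup F top).map (MulAut.conj g).toMonoidHom =
      (D.rootSubgroup F top ⊔ D.rootSubgroup F (s : ℕ)).map (MulAut.conj b.1).toMonoidHom := by
    rw [Subgroup.map_sup, hX1, hmap]
  rw [hsup]
  have hrootp : IsPGroup p ↥(D.rootSubgroup F top ⊔ D.rootSubgroup F (s : ℕ)) → IsPGroup p
      ↥((D.rootSubgroup F top ⊔ D.rootSubgroup F (s : ℕ)).map (MulAut.conj b.1).toMonoidHom) :=
    fun h => h.map _
  have hlin : (∃ a : ℕ → ℤ, 0 < R.lin D.rank a top ∧ 0 < R.lin D.rank a s) →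
      IsPGroup p ↥(D.rootSubgroup F top ⊔ D.rootSubgroup F (s : ℕ)) := by
    rintro ⟨a, ha1, ha2⟩
    have h1 := closure_lin_isPGroup (F := F) hF p a (Q := fun t => t = top ∨ t = s) (by
      rintro t (rfl | rfl)
      · exact ⟨htop, ha1⟩
      · exact ⟨s.2, ha2⟩)
    apply h1.to_le
    apply sup_le
    · rw [← rootClosure_eq_rootSubgroup hF]
      apply Subgroup.closure_mono
      rintro y ⟨t, u, rfl, h⟩
      exact ⟨_, u, Or.inl rfl, h⟩
    · rw [← rootClosure_eq_rootSubgroup hF]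
      apply Subgroup.closure_mono
      rintro y ⟨t, u, rfl, h⟩
      exact ⟨_, u, Or.inr rfl, h⟩
  rcases htab s s.2 with h | h | ⟨i, hi, j, hj, hdet⟩
  · left
    apply hrootp
    apply hlin
    refine ⟨hF.phiW, hF.phi_pos htop hpos, ?_⟩
    rw [h]
    exact hF.phi_pos htop hpos
  · right
    refine ⟨b.1⁻¹, Subgroup.inv_mem _ b.2, ?_⟩
    rw [Subgroup.map_map, ← h]
    have : (MulAut.conj b.1⁻¹).toMonoidHom.comp (MulAut.conj b.1).toMonoidHom = MonoidHom.id _ := by
      ext1 x
      simp [MulAut.conj_apply]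
      group
    rw [this, Subgroup.map_id]
  · left
    apply hrootp
    apply hlin
    exact exists_lin_of_det hi hj hdet

end Cfsg.Agent.Lib.ChevAut.LongRoot
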