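import Mathlib
import Cfsg.Agent.Lib.ChevAut.OutStruct
import Cfsg.Agent.Lib.ChevAut.Final
import Cfsg.Agent.S1081

/-!
# The symmetries of the Dynkin diagram which are realized by automorphisms, type by type

For each of the seven exceptional data, the set `RS` of realized symmetries of the diagram has
`1`, `2` or `6` elements (and is non-abelian in the last case).
-/

set_option autoImplicit false
set_option linter.unusedSectionVars false
set_option linter.unusedVariables false
set_option linter.unnecessarySimpa false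

namespace Cfsg.Agent.Lib.ChevAut

open Cfsg.Lie Matrix Cfsg.Agent.Lib.Chev Cfsg.Agent.Lib.Chev.Full
open Cfsg.Agent.Lib.Chev.Graph

variable {T : Tabs} {X : Extra} {R : RootTab} {D : ChevalleyDatum}
variable {F : Type*} [Field F]

/-- If every diagram symmetry is `1` or `ρ₀`, then `RS` has at most two elements. -/
theorem card_RS_le_two (hF : Full T X R D) [Finite F] (ρ₀ : Equiv.Perm (Fin D.rank))
    (h : ∀ ρ : Equiv.Perm (Fin D.rank),
      (∀ i j, i ≠ j → (D.cartan (ρ j) (D.simple (ρ i)) = 0 ↔ D.cartan j (D.simple i) = 0)) → ρ = 1 ∨ ρ = ρ₀) :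
    Nat.card (RS hF F) = 1 ∨ Nat.card (RS hF F) = 2 := by
  classical
  by_cases h0 : ρ₀ ∈ RS hF F ∧ ρ₀ ≠ 1
  · right
    have h1 : RS hF F = {1, ρ₀} := by
      ext ρ
      simp only [Set.mem_insert_iff, Set.mem_singleton_iff]
      constructor
      · intro h2
        exact h ρ (RS_adj hF h2)
      · rintro (rfl | rfl)
        · exact one_mem_RS hF
        · exact h0.1
    rw [h1, Nat.card_coe_set_eq, Set.ncard_pair (Ne.symm h0.2)]
  · left
    have h1 : RS hF F = {1} := by
      ext ρ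
      simp only [Set.mem_singleton_iff]
      constructor
      · intro h2
        rcases h ρ (RS_adj hF h2) with h3 | h3
        · exact h3
        · by_contra h4
          apply h0
          subst h3
          exact ⟨h2, h4⟩
      · rintro rfl
        exact one_mem_RS hF
    rw [h1]
    simp

/-- Turn an involutory list into a permutation -/
def swG2 : Equiv.Perm (Fin chevG2.rank) where
  toFun i := ⟨[1, 0].getD i 0, by revert i; decide +kernel⟩
  invFun i := ⟨[1, 0].getD i 0, by revert i; decide +kernel⟩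
  left_inv := by decide +kernel
  right_inv := by decide +kernel

def swB2 : Equiv.Perm (Fin chevB2.rank) where
  toFun i := ⟨[1, 0].getD i 0, by revert i; decide +kernel⟩
  invFun i := ⟨[1, 0].getD i 0, by revert i; decide +kernel⟩
  left_inv := by decide +kernel
  right_inv := by decide +kernel

def swF4 : Equiv.Perm (Fin chevF4.rank) where
  toFun i := ⟨[3, 2, 1, 0].getD i 0, by revert i; decide +kernel⟩
  invFun i := ⟨[3, 2, 1, 0].getD i 0, by revert i; decide +kernel⟩
  left_inv := by decide +kernel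
  right_inv := by decide +kernel

theorem perm_G2 : ∀ ρ : Equiv.Perm (Fin chevG2.rank),
    (∀ i j, i ≠ j → (chevG2.cartan (ρ j) (chevG2.simple (ρ i)) = 0 ↔ chevG2.cartan j (chevG2.simple i) = 0)) →
    ρ = 1 ∨ ρ = swG2 := by
  decide +kernel

theorem perm_B2 : ∀ ρ : Equiv.Perm (Fin chevB2.rank),
    (∀ i j, i ≠ j → (chevB2.cartan (ρ j) (chevB2.simple (ρ i)) = 0 ↔ chevB2.cartan j (chevB2.simple i) = 0)) →
    ρ = 1 ∨ ρ = swB2 := by
  decide +kernel

theorem perm_F4 : ∀ ρ : Equiv.Perm (Fin chevF4.rank),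
    (∀ i j, i ≠ j → (chevF4.cartan (ρ j) (chevF4.simple (ρ i)) = 0 ↔ chevF4.cartan j (chevF4.simple i) = 0)) →
    ρ = 1 ∨ ρ = swF4 := by
  decide +kernel

theorem perm_E6 : ∀ ρ : Equiv.Perm (Fin chevE6.rank),
    (∀ i j, i ≠ j → (chevE6.cartan (ρ j) (chevE6.simple (ρ i)) = 0 ↔ chevE6.cartan j (chevE6.simple i) = 0)) →
    ρ = 1 ∨ ρ = swE6 := by
  decide +kernel

/-! ### `D₄` -/

def c3D4 : Equiv.Perm (Fin chevD4.rank) where
  toFun i := ⟨[2, 1, 3, 0].getD i 0, by revert i; decide +kernel⟩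
  invFun i := ⟨[3, 1, 0, 2].getD i 0, by revert i; decide +kernel⟩
  left_inv := by decide +kernel
  right_inv := by decide +kernel

def s2D4 : Equiv.Perm (Fin chevD4.rank) where
  toFun i := ⟨[0, 1, 3, 2].getD i 0, by revert i; decide +kernel⟩
  invFun i := ⟨[0, 1, 3, 2].getD i 0, by revert i; decide +kernel⟩
  left_inv := by decide +kernel
  right_inv := by decide +kernel

noncomputable def piD4s : ℕ → ℕ := nth 1000 [0, 1, 3, 2, 4, 5, 7, 6, 8, 9, 10, 12, 11, 13, 15, 14, 17, 16, 18, 20, 19, 21, 22, 23, 25, 24, 26, 27]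
noncomputable def sD4s : ℕ → ℤ := nth 0 [1, 1, 1, 1, 1, 1, 1, 1, 1, 1, 1, 1, 1, 1, 1, 1, 1, 1, 1, 1, 1, 1, 1, 1, 1, 1, 1, 1]

theorem gD4s : checkGraph TabD4.T piD4s sD4s = true := by decide +kernel
theorem pD4s : checkPerm TabD4.T piD4s piD4s sD4s = true := by decide +kernel
theorem tD4s : ∀ i < chevD4.rank, piD4s (chevD4.rank + chevD4.simple i) - chevD4.rank = chevD4.simple ([0, 1, 3, 2].getD i 0) ∧
    sD4s (chevD4.rank + chevD4.simple i) = 1 ∧
    piD4s (chevD4.rank + chevD4.neg (chevD4.simple i)) - chevD4.rank = chevD4.neg (chevD4.simple ([0, 1, 3, 2].getD i 0)) ∧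
    sD4s (chevD4.rank + chevD4.neg (chevD4.simple i)) = 1 := by decide +kernel

theorem perm_D4 : ∀ ρ : Equiv.Perm (Fin chevD4.rank),
    (∀ i j, i ≠ j → (chevD4.cartan (ρ j) (chevD4.simple (ρ i)) = 0 ↔ chevD4.cartan j (chevD4.simple i) = 0)) →
    ρ = 1 ∨ ρ = c3D4 ∨ ρ = c3D4 * c3D4 ∨ ρ = s2D4 ∨ ρ = c3D4 * s2D4 ∨ ρ = c3D4 * c3D4 * s2D4 := by
  decide +kernel

theorem card_D4_six : (({1, c3D4, c3D4 * c3D4, s2D4, c3D4 * s2D4, c3D4 * c3D4 * s2D4} : Finset (Equiv.Perm (Fin chevD4.rank))).card) = 6 := by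
  decide +kernel

theorem comm_D4 : c3D4 * s2D4 ≠ s2D4 * c3D4 := by decide +kernel

theorem c3D4_mem_RS (hF : Full T X R chevD4) [Finite F] : c3D4 ∈ RS hF F := by
  obtain ⟨α, hα⟩ := Cfsg.Agent.S1081.result (F := F) (chevD4, [2, 1, 3, 0]) (by simp)
  refine mem_RS_of_param hF diagFacts_D4 (α := α)
    (fun _ t => t) (fun _ t => t) (fun _ => Function.surjective_id) (fun _ => Function.surjective_id) ?_ ?_
  · intro i t
    apply Subtype.ext
    apply Units.ext
    exact (hα _ i t i.2).1 rfl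
  · intro i t
    apply Subtype.ext
    apply Units.ext
    exact (hα _ i t i.2).2 rfl

theorem s2D4_mem_RS (hF : Full T X R chevD4) [Finite F] : s2D4 ∈ RS hF F := by
  obtain ⟨α, hα⟩ := Cfsg.Agent.S1081.finish (F := F) RelD4.checks gD4s pD4s _ tD4s
  refine mem_RS_of_param hF diagFacts_D4 (α := α)
    (fun _ t => t) (fun _ t => t) (fun _ => Function.surjective_id) (fun _ => Function.surjective_id) ?_ ?_
  · intro i t
    apply Subtype.ext
    apply Units.ext
    exact (hα _ i t i.2).1 rfl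
  · intro i t
    apply Subtype.ext
    apply Units.ext
    exact (hα _ i t i.2).2 rfl

theorem card_RS_D4 (hF : Full T X R chevD4) [Finite F] : Nat.card (RS hF F) = 6 := by
  classical
  have h1 : c3D4 ∈ (outHom hF (F := F)).range := (mem_range_outHom hF diagFacts_D4 _).2 (c3D4_mem_RS hF)
  have h2 : s2D4 ∈ (outHom hF (F := F)).range := (mem_range_outHom hF diagFacts_D4 _).2 (s2D4_mem_RS hF)
  have h3 : RS hF F = (({1, c3D4, c3D4 * c3D4, s2D4, c3D4 * s2D4, c3D4 * c3D4 * s2D4} : Finset (Equiv.Perm (Fin chevD4.rank))) : Set _) := by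
    ext ρ
    simp only [Finset.coe_insert, Finset.coe_singleton, Set.mem_insert_iff, Set.mem_singleton_iff]
    constructor
    · intro h
      exact perm_D4 ρ (RS_adj hF h)
    · intro h
      rw [← mem_range_outHom hF diagFacts_D4]
      rcases h with rfl | rfl | rfl | rfl | rfl | rfl
      · exact one_mem _
      · exact h1
      · exact mul_mem h1 h1
      · exact h2
      · exact mul_mem h1 h2
      · exact mul_mem (mul_mem h1 h1) h2
  rw [h3, Nat.card_coe_set_eq, Set.ncard_coe_finset, card_D4_six]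

/-- The three cases for `RS`. -/
theorem RS_cases (D : ChevalleyDatum) {T : Tabs} {X : Extra} {R : RootTab} (hF : Full T X R D) [Finite F]
    (hD : D ∈ [chevG2, chevB2, chevD4, chevF4, chevE6, chevE7, chevE8]) :
    Nat.card (RS hF F) = 1 ∨ Nat.card (RS hF F) = 2 ∨
      (Nat.card (RS hF F) = 6 ∧ ∃ a ∈ RS hF F, ∃ b ∈ RS hF F, a * b ≠ b * a) := by
  simp only [List.mem_cons, List.not_mem_nil, or_false] at hD
  rcases hD with rfl | rfl | rfl | rfl | rfl | rfl | rfl
  · rcases card_RS_le_two (F := F) hF swG2 perm_G2 with h | h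
    · exact Or.inl h
    · exact Or.inr (Or.inl h)
  · rcases card_RS_le_two (F := F) hF swB2 perm_B2 with h | h
    · exact Or.inl h
    · exact Or.inr (Or.inl h)
  · exact Or.inr (Or.inr ⟨card_RS_D4 hF, c3D4, c3D4_mem_RS hF, s2D4, s2D4_mem_RS hF, comm_D4⟩)
  · rcases card_RS_le_two (F := F) hF swF4 perm_F4 with h | h
    · exact Or.inl h
    · exact Or.inr (Or.inl h)
  · rcases card_RS_le_two (F := F) hF swE6 perm_E6 with h | h
    · exact Or.inl h
    · exact Or.inr (Or.inl h)
  · exact Or.inl (card_RS_one hF (fun ρ hρ => perm_eq_one_of_walk _ ρ (adjM_perm ρ hρ) 5 walk_E7))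
  · exact Or.inl (card_RS_one hF (fun ρ hρ => perm_eq_one_of_walk _ ρ (adjM_perm ρ hρ) 3 walk_E8))

/-- The automorphism group of a finite field is cyclic. -/
theorem isCyclic_ringAut (F : Type*) [Field F] [Finite F] : IsCyclic (F ≃+* F) := by
  classical
  obtain ⟨p, hp⟩ := CharP.exists F
  have hpp : p.Prime := CharP.char_is_prime F p
  haveI : Fact p.Prime := ⟨hpp⟩
  haveI := Fintype.ofFinite F
  let _ : Algebra (ZMod p) F := ZMod.algebra F p
  let h : (F ≃ₐ[ZMod p] F) →* (F ≃+* F) :=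
    { toFun := fun σ => (σ : F ≃+* F)
      map_one' := rfl
      map_mul' := fun _ _ => rfl }
  have hs : Function.Surjective h := by
    intro σ
    refine ⟨AlgEquiv.ofRingEquiv (f := σ) (by
      intro r
      have := RingHom.ext_zmod ((σ : F →+* F).comp (algebraMap (ZMod p) F)) (algebraMap (ZMod p) F)
      exact DFunLike.congr_fun this r), ?_⟩
    ext x
    rfl
  exact isCyclic_of_surjective h hs

end Cfsg.Agent.Lib.ChevAut
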