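import Mathlib
import Cfsg.Agent.Lib.ChevAut.LongRoot
import Cfsg.Agent.Lib.ChevAut.SimpleRoot
import Cfsg.Agent.Lib.ChevAut.Struct

/-!
# The centraliser of a highest root element

For `top` the highest root and `j0` the only fundamental root not orthogonal to `top`,
`C_G(x_top(1)) = ⟨U, X_{-p_j} : j ≠ j0⟩`.
-/

set_option autoImplicit false
set_option linter.unusedSectionVars false
set_option linter.unusedVariables false
set_option linter.unnecessarySimpa false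

namespace Cfsg.Agent.Lib.ChevAut.RootCent

open Cfsg Cfsg.Lie Matrix Cfsg.Agent.Lib.Chev Cfsg.Agent.Lib.Chev.Full Cfsg.Agent.Lib.Chev.Tri
open Cfsg.Agent.Lib.ChevAut.LongRoot Equiv

variable {T : Tabs} {X : Extra} {R : RootTab} {D : ChevalleyDatum} (hF : Full T X R D)
variable {F : Type*} [Field F]

/-- The root set of the centraliser. -/
def QY (D : ChevalleyDatum) (j0 : ℕ) (r : ℕ) : Prop :=
  D.IsPosRoot r ∨ ∃ j < D.rank, j ≠ j0 ∧ r = D.neg (D.simple j)

/-- The centraliser of the root element. -/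
def Yg (D : ChevalleyDatum) (F : Type*) [Field F] (j0 : ℕ) : Subgroup (GL D.Idx F) :=
  rootClosure D F (QY D j0)

theorem lin_of_rc {R : RootTab} {n : ℕ} {t r s : ℕ} {A : ℤ} (a : ℕ → ℤ)
    (h : ∀ j < n, R.rcAt t j = R.rcAt r j + A * R.rcAt s j) :
    R.lin n a t = R.lin n a r + A * R.lin n a s := by
  unfold RootTab.lin
  rw [Finset.mul_sum, ← Finset.sum_add_distrib]
  apply Finset.sum_congr rfl
  intro j hj
  rw [h j (Finset.mem_range.1 hj)]
  ring

include hF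

theorem tor_mem_normalizer_rootClosure {Q : ℕ → Prop} (hQ : ∀ s, Q s → s < D.nroots) (c : Fin D.rank → Fˣ) :
    tor R D c ∈ Subgroup.normalizer (rootClosure D F Q : Set (GL D.Idx F)) := by
  have key : ∀ c : Fin D.rank → Fˣ, ∀ x ∈ {g : GL D.Idx F | ∃ (s : ℕ) (t : F), Q s ∧ (g : Matrix D.Idx D.Idx F) = D.x F s t},
      tor R D c * x * (tor R D c)⁻¹ ∈ rootClosure D F Q := by
    rintro c x ⟨s, t, hs, hx⟩
    rw [hF.c.eq_xG hx, hF.tor_conj_xG c (hQ s hs) t]
    exact hF.xG_mem_rootClosure hs _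
  apply GroupLem.mem_normalizer_closure
  · exact key c
  · intro x hx
    have := key c⁻¹ x hx
    rwa [← tor_inv, inv_inv] at this

theorem diagonal_le_normalizer_rootClosure {Q : ℕ → Prop} (hQ : ∀ s, Q s → s < D.nroots) :
    D.diagonalSubgroup F ≤ Subgroup.normalizer (rootClosure D F Q : Set (GL D.Idx F)) := by
  intro h hh
  obtain ⟨c, rfl⟩ := (hF.mem_diagonal_iff).1 hh
  exact tor_mem_normalizer_rootClosure hF hQ c

theorem QY_lt {j0 r : ℕ} (h : QY D j0 r) : r < D.nroots := by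
  rcases h with h | ⟨j, hj, _, rfl⟩
  · exact ((hF.isPos_iff).1 h).1
  · exact hF.neg_lt (hF.simple_lt hj)

theorem U_le_Yg (j0 : ℕ) : D.posUnipotent F ≤ Yg D F j0 := by
  apply Subgroup.closure_mono
  rintro g ⟨r, t, hr, hg⟩
  exact ⟨r, t, Or.inl hr, hg⟩

theorem borel_le_Yg_sup (j0 : ℕ) : D.borelSubgroup F ≤ Yg D F j0 ⊔ D.diagonalSubgroup F :=
  sup_le ((U_le_Yg hF j0).trans le_sup_left) le_sup_right

theorem nS_mem_Yg {j0 j : ℕ} (hj : j < D.rank) (hne : j ≠ j0) : hF.nS (F := F) j ∈ Yg D F j0 := by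
  have h1 : ∀ t : F, hF.c.xG (D.simple j) t ∈ Yg D F j0 := fun t =>
    hF.xG_mem_rootClosure (Q := QY D j0) (Or.inl ((hF.isPos_iff).2 ⟨hF.simple_lt hj, hF.simple_ge hj⟩)) t
  have h2 : ∀ t : F, hF.c.xG (D.neg (D.simple j)) t ∈ Yg D F j0 := fun t =>
    hF.xG_mem_rootClosure (Q := QY D j0) (Or.inr ⟨j, hj, hne, rfl⟩) t
  unfold nS Checks.nG
  exact Subgroup.mul_mem _ (Subgroup.mul_mem _ (h1 _) (h2 _)) (h1 _)

theorem hG_mem_Yg {j0 j : ℕ} (hj : j < D.rank) (hne : j ≠ j0) (t : F) :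
    hF.c.hG (D.simple j) t ∈ Yg D F j0 := by
  have h1 : ∀ t : F, hF.c.xG (D.simple j) t ∈ Yg D F j0 := fun t =>
    hF.xG_mem_rootClosure (Q := QY D j0) (Or.inl ((hF.isPos_iff).2 ⟨hF.simple_lt hj, hF.simple_ge hj⟩)) t
  have h2 : ∀ t : F, hF.c.xG (D.neg (D.simple j)) t ∈ Yg D F j0 := fun t =>
    hF.xG_mem_rootClosure (Q := QY D j0) (Or.inr ⟨j, hj, hne, rfl⟩) t
  unfold Checks.hG Checks.nG
  exact Subgroup.mul_mem _ (Subgroup.mul_mem _ (Subgroup.mul_mem _ (h1 _) (h2 _)) (h1 _))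
    (Subgroup.mul_mem _ (Subgroup.mul_mem _ (h1 _) (h2 _)) (h1 _))

/-- A torus element with trivial `j0` coordinate lies in `Y`. -/
theorem tor_mem_Yg {j0 : ℕ} (hj0 : j0 < D.rank) (c : Fin D.rank → Fˣ) (hc : c ⟨j0, hj0⟩ = 1) :
    tor R D c ∈ Yg D F j0 := by
  have h1 : c = ∏ i : Fin D.rank, Pi.mulSingle i (c i) := (Finset.univ_prod_mulSingle c).symm
  let K : Subgroup (Fin D.rank → Fˣ) := (Yg D F j0).comap (torHom R D)
  have h2 : c ∈ K := by
    rw [h1]
    apply Subgroup.prod_mem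
    intro i _
    by_cases hi : (i : ℕ) = j0
    · have : i = ⟨j0, hj0⟩ := Fin.ext hi
      rw [this, hc, Pi.mulSingle_one]
      exact Subgroup.one_mem _
    · show tor R D (Pi.mulSingle i (c i)) ∈ Yg D F j0
      rw [← hF.hSimple_eq_tor]
      exact hG_mem_Yg hF i.2 hi _
  exact h2

section top

variable {top j0 : ℕ} (htop : top < D.nroots) (hmax : ∀ s < D.nroots, s ≤ top) (hpos : R.N ≤ top)
  (hj0 : j0 < D.rank) (hcart0 : D.cartan j0 top = 1) (hcart : ∀ j < D.rank, j ≠ j0 → D.cartan j top = 0)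

include htop hmax hpos

theorem comm_pos {s : ℕ} (hs : D.IsPosRoot s) (t u : F) :
    hF.c.xG s u * hF.c.xG top t = hF.c.xG top t * hF.c.xG s u := by
  obtain ⟨hs1, hs2⟩ := (hF.isPos_iff).1 hs
  by_cases hst : s = top
  · subst hst
    rw [hF.c.xG_add, hF.c.xG_add, add_comm]
  · have hne := neg_ne_of_pos hF htop hpos hs2
    have h := hF.xG_comm htop hs1 hst hne t u
    have hnil : D.commTerms top s = [] := by
      apply List.eq_nil_iff_forall_not_mem.2
      intro c hc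
      have h1 := hF.commTerm_pos htop hs1 hst hne hc hpos hs2
      have h2 := (hF.commTerms_spec htop hs1 hst hne hc).1
      have h3 := hmax _ h2
      omega
    rw [h, ChevalleyDatum.commWord, hnil]
    simp [Checks.wordG_nil]

omit hmax hpos in
theorem comm_neg {j : ℕ} (hj : j < D.rank) (hnil : D.commTerms top (D.neg (D.simple j)) = [])
    (hne1 : D.neg (D.simple j) ≠ top) (hne2 : D.neg (D.simple j) ≠ D.neg top) (t u : F) :
    hF.c.xG (D.neg (D.simple j)) u * hF.c.xG top t = hF.c.xG top t * hF.c.xG (D.neg (D.simple j)) u := by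
  have h := hF.xG_comm htop (hF.neg_lt (hF.simple_lt hj)) hne1 hne2 t u
  rw [h, ChevalleyDatum.commWord, hnil]
  simp [Checks.wordG_nil]

omit hmax hpos in
theorem lin_eq_top {r : ℕ} (hr : r < D.nroots) (h : R.lin D.rank hF.phiW r = R.lin D.rank hF.phiW top) : r = top := by
  rcases lt_trichotomy r top with h1 | h1 | h1
  · have := (hF.phi_lt_iff hr htop).2 h1
    omega
  · exact h1
  · have := (hF.phi_lt_iff htop hr).2 h1
    omega

/-- Elements of `N` fixing `top` lie in `⟨H, n_j : j ≠ j0⟩`. -/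
theorem stab_aux (hj0' : j0 < D.rank) (hcart0' : D.cartan j0 top = 1) (hcart' : ∀ j < D.rank, j ≠ j0 → D.cartan j top = 0) :
    ∀ (k : ℕ) (n : ↥(D.monomialSubgroup F)), invF R D (hF.rhoN F n) = k →
      hF.rhoN F n ⟨top, htop⟩ = ⟨top, htop⟩ → n.1 ∈ Yg D F j0 ⊔ D.diagonalSubgroup F := by
  intro k
  induction k with
  | zero =>
    intro n hn _
    exact Subgroup.mem_sup_right (hF.mem_diagonal_of_rhoN_eq_one (hF.eq_one_of_invF (hF.rhoN_mem_Wk n) hn))
  | succ k ih =>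
    intro n hn hfix
    obtain ⟨i, hi, -, hneg⟩ := hF.exists_simple_neg (hF.rhoN_mem_Wk n) (by omega)
    have h1 := (hF.invF_mul (hF.rhoN_mem_Wk n) hi).2 hneg
    -- `i ≠ j0`
    have hij : i ≠ j0 := by
      rintro rfl
      have hw : X.wf i top < D.nroots := hF.wf_lt hi htop
      have hlin := Cfsg.Agent.Lib.ChevAut.rc_linear hF (hF.rhoN_mem_Wk n) ⟨top, htop⟩ ⟨D.simple i, hF.simple_lt hi⟩ ⟨X.wf i top, hw⟩ (-1) (by
        intro j hj
        simp only
        rw [hF.wf_rc hi htop hj, hF.simple_rc hi hj, hcart0']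
        by_cases h : i = j
        · subst h
          simp only [if_true]
          ring
        · simp only [if_neg h, if_neg (Ne.symm h)]
          ring)
      rw [hfix] at hlin
      have h2 := lin_of_rc (R := R) hF.phiW hlin
      have h3 := hF.phi_neg hneg
      simp only at h2
      have h4 := hmax _ (hF.rhoN F n ⟨X.wf i top, hw⟩).2
      have h5 : R.lin D.rank hF.phiW top < R.lin D.rank hF.phiW ((hF.rhoN F n ⟨X.wf i top, hw⟩ : Fin D.nroots) : ℕ) := by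
        rw [h2]
        omega
      have h6 := (hF.phi_lt_iff htop (hF.rhoN F n ⟨X.wf i top, hw⟩).2).1 h5
      omega
    have hc0 : D.cartan i top = 0 := hcart' i hi hij
    have hwf : X.wf i top = top := by
      apply lin_eq_top hF htop (hF.wf_lt hi htop)
      rw [Cfsg.Agent.Lib.ChevAut.ParabFit.lin_wf hF hi htop, hc0]
      simp
    let n₂ : ↥(D.monomialSubgroup F) := n * (hF.nN hi)⁻¹
    have hsq : hF.rhoN F n₂ = hF.rhoN F n * hF.wPerm hi := by
      rw [map_mul, map_inv, hF.rhoN_nN, hF.wPerm_inv]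
    have hfix2 : hF.rhoN F n₂ ⟨top, htop⟩ = ⟨top, htop⟩ := by
      rw [hsq, Perm.mul_apply]
      have : hF.wPerm hi ⟨top, htop⟩ = ⟨top, htop⟩ := Fin.ext hwf
      rw [this, hfix]
    have h2 := ih n₂ (by rw [hsq]; omega) hfix2
    have h4 : n.1 = n₂.1 * hF.nS i := by
      show n.1 = n.1 * (hF.nS i)⁻¹ * hF.nS i
      group
    rw [h4]
    exact Subgroup.mul_mem _ h2 (Subgroup.mem_sup_left (nS_mem_Yg hF hi hij))

/-- The centraliser of the highest root element. -/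
theorem centralizer_eq (hj0' : j0 < D.rank) (hcart0' : D.cartan j0 top = 1)
    (hcart' : ∀ j < D.rank, j ≠ j0 → D.cartan j top = 0)
    (hnil : ∀ j < D.rank, j ≠ j0 → D.commTerms top (D.neg (D.simple j)) = [])
    (hne1 : ∀ j < D.rank, j ≠ j0 → D.neg (D.simple j) ≠ top)
    (hne2 : ∀ j < D.rank, j ≠ j0 → D.neg (D.simple j) ≠ D.neg top)
    {t : GL D.Idx F} (ht : (t : Matrix D.Idx D.Idx F) = D.x F top 1) :
    D.group F ⊓ Subgroup.centralizer {t} = Yg D F j0 := by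
  have ht' : t = hF.c.xG top 1 := hF.c.eq_xG ht
  have hle : Yg D F j0 ≤ D.group F ⊓ Subgroup.centralizer {t} := by
    unfold Yg rootClosure
    rw [Subgroup.closure_le]
    rintro g ⟨r, s, hr, hg⟩
    rw [SetLike.mem_coe, hF.c.eq_xG hg]
    refine ⟨hF.c.xG_mem_group (QY_lt hF hr) s, Subgroup.mem_centralizer_iff.2 ?_⟩
    intro h hh
    rw [Set.mem_singleton_iff] at hh
    subst hh
    rw [ht']
    rcases hr with hr | ⟨j, hj, hne, rfl⟩
    · exact (comm_pos hF htop hmax hpos hr 1 s).symm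
    · exact (comm_neg hF htop hj (hnil j hj hne) (hne1 j hj hne) (hne2 j hj hne) 1 s).symm
  apply le_antisymm _ hle
  rintro g ⟨hg, hgc⟩
  have hgc' := Subgroup.mem_centralizer_iff.1 hgc t (Set.mem_singleton t)
  obtain ⟨n, hn, hg'⟩ := Cfsg.Agent.Lib.BNPair.exists_mem_dc (P := hF.bnPair F) (⟨g, hg⟩ : ↥(D.group F))
  obtain ⟨b, hb, b', hb', e⟩ := Cfsg.Agent.Lib.BNPair.mem_dc.1 hg'
  have hb1 : b.1 ∈ D.borelSubgroup F := Subgroup.mem_subgroupOf.1 hb
  have hb2 : b'.1 ∈ D.borelSubgroup F := Subgroup.mem_subgroupOf.1 hb'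
  have hn1 : n.1 ∈ D.monomialSubgroup F := Subgroup.mem_subgroupOf.1 hn
  have e' : g = b.1 * n.1 * b'.1 := congrArg Subtype.val e
  have hnorm := borel_le_normalizer_top (F := F) hF htop hmax hpos
  have htX : t ∈ D.rootSubgroup F top := by
    rw [ht']
    exact hF.c.xG_mem_rootSubgroup _ _
  obtain ⟨c, hc⟩ := hF.c.mem_rootSubgroup_iff.1 ((Subgroup.mem_set_normalizer_iff.1 (hnorm hb2) t).1 htX)
  obtain ⟨c', hc'⟩ := hF.c.mem_rootSubgroup_iff.1
    ((Subgroup.mem_set_normalizer_iff.1 (hnorm (Subgroup.inv_mem _ hb1)) t).1 htX)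
  have hc0 : c ≠ 0 := by
    rintro rfl
    have h1 : b'.1 * t * b'.1⁻¹ = 1 := by rw [hc]; simp
    have h2 : t = 1 := by
      have h3 : t = b'.1⁻¹ * (b'.1 * t * b'.1⁻¹) * b'.1 := by group
      rw [h3, h1]
      group
    exact Cfsg.Agent.Lib.ChevAut.xG_ne_one hF htop (one_ne_zero (α := F)) (ht' ▸ h2)
  set nn : ↥(D.monomialSubgroup F) := ⟨n.1, hn1⟩ with hnn
  obtain ⟨u, hu⟩ := hF.rhoN_spec_apply nn ⟨top, htop⟩
  have hu1 : nn.1 * hF.c.xG top c * nn.1⁻¹ = b.1⁻¹ * t * (b.1⁻¹)⁻¹ := by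
    have h1 : g * t * g⁻¹ = t := by
      rw [← hgc']
      group
    rw [e'] at h1
    rw [← hc]
    have h2 : n.1 * (b'.1 * t * b'.1⁻¹) * n.1⁻¹ = b.1⁻¹ * (b.1 * n.1 * b'.1 * t * (b.1 * n.1 * b'.1)⁻¹) * b.1 := by
      group
    show n.1 * (b'.1 * t * b'.1⁻¹) * n.1⁻¹ = _
    rw [h2, h1]
    group
  have hfix : hF.rhoN F nn ⟨top, htop⟩ = ⟨top, htop⟩ := by
    apply Fin.ext
    rw [hu, hc'] at hu1
    exact hF.xG_root_inj (hF.rhoN F nn ⟨top, htop⟩).2 htop (mul_ne_zero (Units.ne_zero u) hc0) hu1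
  have hnsup := stab_aux hF htop hmax hpos hj0' hcart0' hcart' _ nn rfl hfix
  have hgsup : g ∈ Yg D F j0 ⊔ D.diagonalSubgroup F := by
    rw [e']
    exact Subgroup.mul_mem _ (Subgroup.mul_mem _ (borel_le_Yg_sup hF j0 hb1) hnsup) (borel_le_Yg_sup hF j0 hb2)
  obtain ⟨y, hy, h0, hh0, e2⟩ := (GroupLem.mem_sup_iff_of_le_normalizer
    (diagonal_le_normalizer_rootClosure hF (fun s hs => QY_lt hF hs))).1 hgsup
  obtain ⟨c0, rfl⟩ := (hF.mem_diagonal_iff).1 hh0
  have hyc : t * y = y * t := by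
    exact Subgroup.mem_centralizer_iff.1 (hle hy).2 t (Set.mem_singleton t)
  have hh0c : tor R D c0 * t * (tor R D c0)⁻¹ = t := by
    have h1 : tor R D c0 = y⁻¹ * g := by rw [e2]; group
    rw [h1]
    have h2 : y⁻¹ * g * t * (y⁻¹ * g)⁻¹ = y⁻¹ * (g * t * g⁻¹) * y := by group
    have h3 : g * t * g⁻¹ = t := by
      rw [← hgc']
      group
    rw [h2, h3]
    have h4 : y⁻¹ * t * y = y⁻¹ * (t * y) := by group
    rw [h4, hyc]
    group
  have hchi : chiT D c0 top = 1 := by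
    rw [ht', hF.tor_conj_xG c0 htop, mul_one] at hh0c
    apply Units.ext
    exact Cfsg.Agent.Lib.ChevAut.gx_inj hF htop (Subtype.ext hh0c)
  have hcj : c0 ⟨j0, hj0'⟩ = 1 := by
    unfold chiT at hchi
    rw [Finset.prod_eq_single (⟨j0, hj0'⟩ : Fin D.rank)] at hchi
    · rw [hcart0', zpow_one] at hchi
      exact hchi
    · intro i _ hi
      have : (i : ℕ) ≠ j0 := fun h => hi (Fin.ext h)
      rw [hcart' i i.2 this, zpow_zero]
    · simp
  rw [e2]
  exact Subgroup.mul_mem _ hy (tor_mem_Yg hF hj0' c0 hcj)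

end top

omit hF in
/-- The centraliser in the form used by the statements. -/
theorem Yg_eq {j0 : ℕ} {L : List ℕ} (h1 : ∀ j < D.rank, j ≠ j0 → D.neg (D.simple j) ∈ L)
    (h2 : ∀ s ∈ L, ∃ j < D.rank, j ≠ j0 ∧ s = D.neg (D.simple j)) :
    Yg D F j0 = D.posUnipotent F ⊔ Subgroup.closure {g : GL D.Idx F | ∃ s ∈ L, ∃ c : F, (g : Matrix D.Idx D.Idx F) = D.x F s c} := by
  unfold Yg rootClosure ChevalleyDatum.posUnipotent
  rw [← Subgroup.closure_union]
  congr 1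
  ext g
  simp only [Set.mem_setOf_eq, Set.mem_union]
  constructor
  · rintro ⟨r, t, hr | ⟨j, hj, hne, rfl⟩, hg⟩
    · exact Or.inl ⟨r, t, hr, hg⟩
    · exact Or.inr ⟨_, h1 j hj hne, t, hg⟩
  · rintro (⟨r, t, hr, hg⟩ | ⟨s, hs, c, hg⟩)
    · exact ⟨r, t, Or.inl hr, hg⟩
    · obtain ⟨j, hj, hne, rfl⟩ := h2 s hs
      exact ⟨_, c, Or.inr ⟨j, hj, hne, rfl⟩, hg⟩

/-- The centraliser of the highest root element, in table form. -/
theorem centralizer_top_eq {j0 : ℕ} {L : List ℕ} {t : GL D.Idx F}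
    (hc : 0 < D.nroots ∧ R.N ≤ D.nroots - 1 ∧ j0 < D.rank ∧ D.cartan j0 (D.nroots - 1) = 1 ∧
      (∀ j < D.rank, j ≠ j0 → D.cartan j (D.nroots - 1) = 0) ∧
      (∀ j < D.rank, j ≠ j0 → D.commTerms (D.nroots - 1) (D.neg (D.simple j)) = []) ∧
      (∀ j < D.rank, j ≠ j0 → D.neg (D.simple j) ≠ D.nroots - 1) ∧
      (∀ j < D.rank, j ≠ j0 → D.neg (D.simple j) ≠ D.neg (D.nroots - 1)) ∧
      (∀ j < D.rank, j ≠ j0 → D.neg (D.simple j) ∈ L) ∧
      (∀ s ∈ L, ∃ j < D.rank, j ≠ j0 ∧ s = D.neg (D.simple j)))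
    (ht : (t : Matrix D.Idx D.Idx F) = D.x F (D.nroots - 1) 1) :
    D.group F ⊓ Subgroup.centralizer {t} = D.posUnipotent F ⊔ Subgroup.closure {g : GL D.Idx F | ∃ s ∈ L, ∃ c : F, (g : Matrix D.Idx D.Idx F) = D.x F s c} := by
  obtain ⟨h0, h1, h2, h3, h4, h5, h6, h7, h8, h9⟩ := hc
  rw [← Yg_eq h8 h9]
  exact centralizer_eq hF (by omega) (fun s hs => by omega) h1 h2 h3 h4 h5 h6 h7 ht

theorem closure_cons (a : ℕ) (L : List ℕ) :
    Subgroup.closure {g : GL D.Idx F | ∃ s ∈ a :: L, ∃ c : F, (g : Matrix D.Idx D.Idx F) = D.x F s c} =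
      D.rootSubgroup F a ⊔ Subgroup.closure {g : GL D.Idx F | ∃ s ∈ L, ∃ c : F, (g : Matrix D.Idx D.Idx F) = D.x F s c} := by
  unfold ChevalleyDatum.rootSubgroup
  rw [← Subgroup.closure_union]
  congr 1
  ext g
  simp only [Set.mem_setOf_eq, Set.mem_union, List.mem_cons]
  constructor
  · rintro ⟨s, rfl | hs, c, h⟩
    · exact Or.inl ⟨c, h⟩
    · exact Or.inr ⟨s, hs, c, h⟩
  · rintro (⟨c, h⟩ | ⟨s, hs, c, h⟩)
    · exact ⟨a, Or.inl rfl, c, h⟩
    · exact ⟨s, Or.inr hs, c, h⟩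

omit hF in
theorem closure_nil :
    Subgroup.closure {g : GL D.Idx F | ∃ s ∈ ([] : List ℕ), ∃ c : F, (g : Matrix D.Idx D.Idx F) = D.x F s c} = ⊥ := by
  simp

theorem rootClosure_le_group {Q : ℕ → Prop} (hQ : ∀ r, Q r → r < D.nroots) : rootClosure D F Q ≤ D.group F := by
  unfold rootClosure
  rw [Subgroup.closure_le]
  rintro g ⟨s, t, hs, hg⟩
  rw [SetLike.mem_coe, hF.c.eq_xG hg]
  exact hF.c.xG_mem_group (hQ s hs) t

/-- Endomorphisms sending root elements into a root closure. -/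
theorem aut_mem_rootClosure {Q Q' : ℕ → Prop} (hQ : ∀ r, Q r → r < D.nroots)
    (β : ↥(D.group F) →* ↥(D.group F))
    (h : ∀ r (hr : Q r) (t : F), (β ⟨hF.c.xG r t, hF.c.xG_mem_group (hQ r hr) t⟩).1 ∈ rootClosure D F Q')
    {x : GL D.Idx F} (hx : x ∈ rootClosure D F Q) :
    ∀ hxG : x ∈ D.group F, (β ⟨x, hxG⟩).1 ∈ rootClosure D F Q' := by
  have hle := rootClosure_le_group (F := F) hF hQ
  induction hx using Subgroup.closure_induction with
  | mem x hx =>
    obtain ⟨s, t, hs, hg⟩ := hx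
    intro hxG
    have e : x = hF.c.xG s t := hF.c.eq_xG hg
    subst e
    exact h s hs t
  | one =>
    intro hxG
    have : (⟨1, hxG⟩ : ↥(D.group F)) = 1 := rfl
    rw [this, map_one]
    exact Subgroup.one_mem _
  | mul x y hx hy ihx ihy =>
    intro hxG
    have : (⟨x * y, hxG⟩ : ↥(D.group F)) = ⟨x, hle hx⟩ * ⟨y, hle hy⟩ := rfl
    rw [this, map_mul]
    exact Subgroup.mul_mem _ (ihx _) (ihy _)
  | inv x hx ih =>
    intro hxG
    have : (⟨x⁻¹, hxG⟩ : ↥(D.group F)) = (⟨x, hle hx⟩ : ↥(D.group F))⁻¹ := rfl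
    rw [this, map_inv]
    exact Subgroup.inv_mem _ (ih _)

/-- Transport of a centraliser along an automorphism permuting the root elements. -/
theorem centralizer_transport {Q Q' : ℕ → Prop} (hQ : ∀ r, Q r → r < D.nroots) (hQ' : ∀ r, Q' r → r < D.nroots)
    (α : ↥(D.group F) ≃* ↥(D.group F))
    (h1 : ∀ r (hr : Q r) (t : F), (α ⟨hF.c.xG r t, hF.c.xG_mem_group (hQ r hr) t⟩).1 ∈ rootClosure D F Q')
    (h2 : ∀ r (hr : Q' r) (t : F), (α.symm ⟨hF.c.xG r t, hF.c.xG_mem_group (hQ' r hr) t⟩).1 ∈ rootClosure D F Q)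
    {t u : ↥(D.group F)} (htu : α t = u)
    (hc : D.group F ⊓ Subgroup.centralizer {t.1} = rootClosure D F Q) :
    D.group F ⊓ Subgroup.centralizer {u.1} = rootClosure D F Q' := by
  have hleQ' := rootClosure_le_group (F := F) hF hQ'
  ext g
  constructor
  · rintro ⟨hg, hgc⟩
    have hgc' := Subgroup.mem_centralizer_iff.1 hgc u.1 (Set.mem_singleton _)
    set h := α.symm ⟨g, hg⟩ with hh
    have hu : u * ⟨g, hg⟩ = ⟨g, hg⟩ * u := Subtype.ext hgc'
    have h3 : t * h = h * t := by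
      have h4 := congrArg α.symm hu
      rw [map_mul, map_mul, ← htu, MulEquiv.symm_apply_apply] at h4
      exact h4
    have h5 : h.1 ∈ D.group F ⊓ Subgroup.centralizer {t.1} := by
      refine ⟨h.2, Subgroup.mem_centralizer_iff.2 ?_⟩
      intro y hy
      rw [Set.mem_singleton_iff] at hy
      subst hy
      exact congrArg Subtype.val h3
    rw [hc] at h5
    have h6 := aut_mem_rootClosure hF hQ α.toMonoidHom h1 h5 h.2
    have h7 : α ⟨h.1, h.2⟩ = ⟨g, hg⟩ := by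
      show α h = _
      rw [hh, MulEquiv.apply_symm_apply]
    have h8 : g = (α ⟨h.1, h.2⟩).1 := by rw [h7]
    rw [h8]
    exact h6
  · intro hg
    have hgG := hleQ' hg
    refine ⟨hgG, Subgroup.mem_centralizer_iff.2 ?_⟩
    intro y hy
    rw [Set.mem_singleton_iff] at hy
    subst hy
    have h6 := aut_mem_rootClosure hF hQ' α.symm.toMonoidHom h2 hg hgG
    have h7 : (α.symm ⟨g, hgG⟩).1 ∈ D.group F ⊓ Subgroup.centralizer {t.1} := by
      rw [hc]
      exact h6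
    have h8 := Subgroup.mem_centralizer_iff.1 h7.2 t.1 (Set.mem_singleton _)
    have h9 : t * α.symm ⟨g, hgG⟩ = α.symm ⟨g, hgG⟩ * t := Subtype.ext h8
    have h10 := congrArg α h9
    rw [map_mul, map_mul, htu, MulEquiv.apply_symm_apply] at h10
    exact congrArg Subtype.val h10

end Cfsg.Agent.Lib.ChevAut.RootCent
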