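import Mathlib
import Cfsg.Agent.Lib.ChevAut.RootCent
import Cfsg.Agent.Lib.ChevAut.Norm

/-!
# Weakly closed subgroups of the unipotent group of a Chevalley group

A subgroup `X ≤ U` weakly closed in `U` (with respect to the Chevalley group) is some `U_J`.
The proof: `B` normalises `X`; `J` is the set of `j` with `n_j` normalising `X`; the longest element of `W_J`
shows `X ≤ U_J`; the torus and the Frattini argument show `U = X U_L`.
-/

set_option autoImplicit false
set_option linter.unusedSectionVars false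
set_option linter.unusedVariables false
set_option linter.unnecessarySimpa false

namespace Cfsg.Agent.Lib.ChevAut.WClosed

open Cfsg Cfsg.Lie Matrix Cfsg.Agent.Lib.Chev Cfsg.Agent.Lib.Chev.Full Cfsg.Agent.Lib.Chev.Tri
open Cfsg.Agent.Lib.ChevAut.LongRoot Cfsg.Agent.Lib.ChevAut.RootCent Cfsg.Agent.Lib.ChevAut.ParabFit Equiv
open scoped commutatorElement

variable {T : Tabs} {X : Extra} {R : RootTab} {D : ChevalleyDatum} (hF : Full T X R D)
variable {F : Type*} [Field F]

/-- The group generated by the `n_j`, `j ∈ J`. -/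
def NJ (hF : Full T X R D) (F : Type*) [Field F] (J : Set ℕ) : Subgroup (GL D.Idx F) :=
  Subgroup.closure {g | ∃ (j : ℕ) (_ : j < D.rank), j ∈ J ∧ g = hF.nS j}

/-- The roots of the Levi part of `U`. -/
def QL (D : ChevalleyDatum) (J : Set ℕ) (r : ℕ) : Prop := D.IsPosRoot r ∧ D.InRootSub J r

include hF

theorem NJ_le_monomial (J : Set ℕ) : NJ hF F J ≤ D.monomialSubgroup F := by
  unfold NJ
  rw [Subgroup.closure_le]
  rintro g ⟨j, hj, _, rfl⟩
  exact hF.nS_mem_monomial hj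

theorem NJ_le_parabolic (J : Set ℕ) : NJ hF F J ≤ D.parabolicSubgroup F J := by
  unfold NJ
  rw [Subgroup.closure_le]
  rintro g ⟨j, hj, hjJ, rfl⟩
  exact hF.nS_mem_parabolic hj hjJ

/-- The longest element of `W_J`. -/
theorem exists_longest (J : Set ℕ) : ∃ n : ↥(D.monomialSubgroup F), n.1 ∈ NJ hF F J ∧
    ∀ (j : ℕ) (hj : j < D.rank), j ∈ J → ((hF.rhoN F n ⟨D.simple j, hF.simple_lt hj⟩ : Fin D.nroots) : ℕ) < R.N := by
  classical
  let S : Set (Equiv.Perm (Fin D.nroots)) := {σ | ∃ n : ↥(D.monomialSubgroup F), n.1 ∈ NJ hF F J ∧ hF.rhoN F n = σ}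
  have hS : S.Nonempty := ⟨hF.rhoN F 1, 1, Subgroup.one_mem _, rfl⟩
  obtain ⟨σ, ⟨n, hn, rfl⟩, hmax⟩ := Set.exists_max_image S (invF R D) (Set.toFinite S) hS
  refine ⟨n, hn, ?_⟩
  intro j hj hjJ
  by_contra hcon
  push Not at hcon
  have h1 := (hF.invF_mul (hF.rhoN_mem_Wk n) hj).1 hcon
  have h2 : hF.rhoN F (n * hF.nN hj) = hF.rhoN F n * hF.wPerm hj := by
    rw [map_mul, hF.rhoN_nN]
  have h3 := hmax (hF.rhoN F (n * hF.nN hj)) ⟨n * hF.nN hj, Subgroup.mul_mem _ hn (Subgroup.subset_closure ⟨j, hj, hjJ, rfl⟩), rfl⟩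
  rw [h2, h1] at h3
  omega

theorem longest_neg {J : Set ℕ} {n : ↥(D.monomialSubgroup F)}
    (hneg : ∀ (j : ℕ) (hj : j < D.rank), j ∈ J → ((hF.rhoN F n ⟨D.simple j, hF.simple_lt hj⟩ : Fin D.nroots) : ℕ) < R.N)
    {r : ℕ} (hr : r < D.nroots) (hrp : R.N ≤ r) (hrJ : D.InRootSub J r) :
    ((hF.rhoN F n ⟨r, hr⟩ : Fin D.nroots) : ℕ) < R.N := by
  obtain ⟨a', h⟩ := hF.exists_lin (hF.rhoN_mem_Wk n) hF.phiW
  have ha : ∀ j (hj : j < D.rank), j ∈ J → a' j < 0 := by
    intro j hj hjJ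
    have h1 := h ⟨D.simple j, hF.simple_lt hj⟩
    rw [hF.lin_simple a' hj] at h1
    rw [← h1]
    exact hF.phi_neg (hneg j hj hjJ)
  by_contra hcon
  push Not at hcon
  have h1 := hF.phi_pos (hF.rhoN F n ⟨r, hr⟩).2 hcon
  rw [h ⟨r, hr⟩] at h1
  obtain ⟨-, hrJ'⟩ := (hF.inRootSub_iff).1 hrJ
  obtain ⟨k, hk, hkp⟩ := hF.exists_rc_pos hr hrp
  have hkJ : k ∈ J := by
    by_contra hk2
    have := hrJ' k hk hk2
    omega
  have h2 : R.lin D.rank a' r ≤ a' k * R.rcAt r k := by
    unfold RootTab.lin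
    rw [← Finset.sum_erase_add _ _ (Finset.mem_range.2 hk)]
    have : ∑ x ∈ (Finset.range D.rank).erase k, a' x * R.rcAt r x ≤ 0 := by
      apply Finset.sum_nonpos
      intro j hj
      have hj' := Finset.mem_range.1 (Finset.mem_of_mem_erase hj)
      by_cases hjJ : j ∈ J
      · have h3 := ha j hj' hjJ
        have h4 := hF.rc_nonneg hr hrp hj'
        nlinarith
      · rw [hrJ' j hj' hjJ, mul_zero]
    omega
  have h3 := ha k hk hkJ
  have h4 : a' k * R.rcAt r k < 0 := by nlinarith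
  simp only at h1
  omega

/-- A subgroup of `U` normalised by `N_J` lies in `U_J`. -/
theorem le_radical {Y : Subgroup (GL D.Idx F)} (hY : Y ≤ D.posUnipotent F) (J : Set ℕ)
    (hn : NJ hF F J ≤ Subgroup.normalizer (Y : Set (GL D.Idx F))) : Y ≤ D.unipotentRadical F J := by
  intro x hx
  obtain ⟨n, hnJ, hneg⟩ := exists_longest (F := F) hF J
  have hUsup : D.posUnipotent F ≤ D.unipotentRadical F J ⊔ rootClosure D F (QL D J) := by
    unfold ChevalleyDatum.posUnipotent
    rw [Subgroup.closure_le]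
    rintro g ⟨r, t, hr, hg⟩
    by_cases hrJ : D.InRootSub J r
    · exact Subgroup.mem_sup_right (Subgroup.subset_closure ⟨r, t, ⟨hr, hrJ⟩, hg⟩)
    · refine Subgroup.mem_sup_left ?_
      rw [unipotentRadical_eq]
      exact Subgroup.subset_closure ⟨r, t, ⟨hr, hrJ⟩, hg⟩
  have hLU : rootClosure D F (QL D J) ≤ D.posUnipotent F := by
    apply Subgroup.closure_mono
    rintro g ⟨r, t, hr, hg⟩
    exact ⟨r, t, hr.1, hg⟩
  have hUnorm : D.posUnipotent F ≤ Subgroup.normalizer (D.unipotentRadical F J : Set (GL D.Idx F)) :=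
    ((hF.c.posUnipotent_le_borel).trans (hF.borel_le_parabolic J)).trans (hF.parabolic_le_normalizer J)
  obtain ⟨u, hu, l, hl, rfl⟩ := (GroupLem.mem_sup_iff_of_le_normalizer (hLU.trans hUnorm)).1 (hUsup (hY hx))
  have hn1 := (Subgroup.mem_set_normalizer_iff.1 (hn hnJ) (u * l)).1 hx
  have hn2 : n.1 * u * n.1⁻¹ ∈ D.unipotentRadical F J :=
    (Subgroup.mem_set_normalizer_iff.1 (hF.parabolic_le_normalizer J (NJ_le_parabolic hF J hnJ)) u).1 hu
  have hn3 : n.1 * l * n.1⁻¹ ∈ D.negUnipotent F := by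
    have hconj : ∀ y ∈ rootClosure D F (QL D J), n.1 * y * n.1⁻¹ ∈ D.negUnipotent F := by
      intro y hy
      induction hy using Subgroup.closure_induction with
      | mem y hy =>
        obtain ⟨r, t, hr, hg⟩ := hy
        obtain ⟨hr1, hr2⟩ := (hF.isPos_iff).1 hr.1
        rw [hF.c.eq_xG hg]
        obtain ⟨v, hv⟩ := hF.rhoN_spec_apply n ⟨r, hr1⟩
        rw [hv t]
        exact hF.xG_mem_V (longest_neg hF hneg hr1 hr2 hr.2) _
      | one => simp
      | mul x y _ _ hx hy =>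
        have e : n.1 * (x * y) * n.1⁻¹ = (n.1 * x * n.1⁻¹) * (n.1 * y * n.1⁻¹) := by group
        rw [e]
        exact Subgroup.mul_mem _ hx hy
      | inv x _ hx =>
        have e : n.1 * x⁻¹ * n.1⁻¹ = (n.1 * x * n.1⁻¹)⁻¹ := by group
        rw [e]
        exact Subgroup.inv_mem _ hx
    exact hconj l hl
  have hn4 : n.1 * l * n.1⁻¹ ∈ D.posUnipotent F := by
    have e : n.1 * l * n.1⁻¹ = (n.1 * u * n.1⁻¹)⁻¹ * (n.1 * (u * l) * n.1⁻¹) := by group
    rw [e]
    exact Subgroup.mul_mem _ (Subgroup.inv_mem _ (hF.radical_le_U J hn2)) (hY hn1)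
  have h5 : n.1 * l * n.1⁻¹ ∈ D.borelSubgroup F ⊓ D.negUnipotent F :=
    ⟨hF.c.posUnipotent_le_borel hn4, hn3⟩
  rw [hF.B_inf_V, Subgroup.mem_bot] at h5
  have h6 : l = 1 := by
    have e : l = n.1⁻¹ * (n.1 * l * n.1⁻¹) * n.1 := by group
    rw [e, h5]
    group
  rw [h6, mul_one]
  exact hu

/-! ### The coordinates on `U / [U, U]` -/

omit hF in
/-- The `i`-th simple coordinate of a matrix. -/
noncomputable def piE (hF : Full T X R D) (i : Fin D.rank) (g : GL D.Idx F) : F :=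
  (g : Matrix D.Idx D.Idx F) (Sum.inl i) (Sum.inr ⟨D.neg (D.simple i), hF.neg_lt (hF.simple_lt i.2)⟩)

/-- The height functional. -/
def aOne : ℕ → ℤ := fun _ => 1

theorem ht_pos {s : ℕ} (hs : s < D.nroots) (hp : R.N ≤ s) : 0 < R.lin D.rank aOne s := by
  unfold RootTab.lin aOne
  obtain ⟨k, hk, hkp⟩ := hF.exists_rc_pos hs hp
  apply Finset.sum_pos'
  · intro j hj
    have := hF.rc_nonneg hs hp (Finset.mem_range.1 hj)
    simpa using this
  · exact ⟨k, Finset.mem_range.2 hk, by simpa using hkp⟩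

/-- Coordinates are additive on `U`. -/
theorem piE_mul {u v : GL D.Idx F} (hu : u ∈ D.posUnipotent F) (hv : v ∈ D.posUnipotent F) (i : Fin D.rank) :
    piE hF i (u * v) = piE hF i u + piE hF i v := by
  obtain ⟨ℓ, d, M, hd, hℓ⟩ := Full.exists_lev R D aOne
  have hle : D.posUnipotent F ≤ UT (F := F) ℓ 0 d hd := by
    unfold ChevalleyDatum.posUnipotent
    rw [Subgroup.closure_le]
    rintro g ⟨s, t, hs, hg⟩
    obtain ⟨hs1, hs2⟩ := (hF.isPos_iff).1 hs
    rw [SetLike.mem_coe, mem_UT, hg]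
    exact x_sub_one_mem_lin hF hℓ hs1 (ht_pos hF hs1 hs2) t
  have hA : (u : Matrix D.Idx D.Idx F) - 1 ∈ J ℓ 1 := by simpa using mem_UT.1 (hle hu)
  have hB : (v : Matrix D.Idx D.Idx F) - 1 ∈ J ℓ 1 := by simpa using mem_UT.1 (hle hv)
  have hAB := J_mul hA hB
  set a : D.Idx := Sum.inl i with ha
  set b : D.Idx := Sum.inr ⟨D.neg (D.simple i), hF.neg_lt (hF.simple_lt i.2)⟩ with hb
  have hne : a ≠ b := by simp [ha, hb]
  have hlev : ℓ a < ℓ b + (1 + 1) := by
    have h1 := hℓ a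
    have h2 := hℓ b
    rw [ha, gr_inl] at h1
    rw [hb, gr_inr] at h2
    simp only at h2
    rw [hF.lin_neg aOne (hF.simple_lt i.2), hF.lin_simple aOne i.2] at h2
    simp only [aOne] at h2
    rw [← ha] at h1
    rw [← hb] at h2
    omega
  have h0 := hAB a b hlev
  have e : ((u * v : GL D.Idx F) : Matrix D.Idx D.Idx F) =
      ((u : Matrix D.Idx D.Idx F) - 1) * ((v : Matrix D.Idx D.Idx F) - 1) + (u : Matrix D.Idx D.Idx F) + (v : Matrix D.Idx D.Idx F) - 1 := by
    rw [Units.val_mul]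
    noncomm_ring
  unfold piE
  rw [← ha, ← hb, e, Matrix.sub_apply, Matrix.add_apply, Matrix.add_apply, h0, Matrix.one_apply_ne hne]
  ring

theorem piE_one (i : Fin D.rank) : piE hF i (1 : GL D.Idx F) = 0 := by
  unfold piE
  simp

theorem piE_inv {u : GL D.Idx F} (hu : u ∈ D.posUnipotent F) (i : Fin D.rank) :
    piE hF i u⁻¹ = - piE hF i u := by
  have h := piE_mul hF hu (Subgroup.inv_mem _ hu) i
  rw [mul_inv_cancel, piE_one] at h
  exact eq_neg_of_add_eq_zero_right h.symm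

/-- Coordinates of root elements. -/
theorem piE_xG (hcor : ∀ i < D.rank, (D.coroot.getD (D.simple i) #[]).getD i 0 = 1)
    {s : ℕ} (hs : s < D.nroots) (hp : R.N ≤ s) (t : F) (i : Fin D.rank) :
    piE hF i (hF.c.xG s t) = if s = D.simple i then t else 0 := by
  unfold piE
  rw [Checks.coe_xG]
  by_cases h : s = D.simple i
  · subst h
    rw [if_pos rfl]
    have := hF.x_entry_coroot (F := F) (hF.simple_lt i.2) t i
    rw [hcor i i.2] at this
    simpa using this
  · rw [if_neg h]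
    by_contra h0
    obtain ⟨k, hk, h1⟩ := hF.x_entry_ne hs (by simp) h0
    have h2 : ∀ j < D.rank, (k : ℤ) * R.rcAt s j = if i.1 = j then 1 else 0 := by
      intro j hj
      have h3 := h1 j hj
      rw [rcIdx_inl, rcIdx_inr] at h3
      simp only at h3
      rw [hF.rc_neg (hF.simple_lt i.2) hj, hF.simple_rc i.2 hj] at h3
      omega
    apply h
    apply hF.r.only_simple s hs hp i i.2
    intro j hj
    by_cases hij : j = i
    · exact Or.inl hij
    · right
      have h3 := h2 j hj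
      rw [if_neg (fun e => hij e.symm)] at h3
      have : (k : ℤ) ≠ 0 := by exact_mod_cast hk.ne'
      exact (mul_eq_zero.1 h3).resolve_left this

/-- Coordinates and the torus. -/
theorem piE_conj (hcor : ∀ i < D.rank, (D.coroot.getD (D.simple i) #[]).getD i 0 = 1)
    (c : Fin D.rank → Fˣ) {u : GL D.Idx F} (hu : u ∈ D.posUnipotent F) (i : Fin D.rank) :
    piE hF i (tor R D c * u * (tor R D c)⁻¹) = ((chiT D c (D.simple i) : Fˣ) : F) * piE hF i u := by
  have hnorm : ∀ y ∈ D.posUnipotent F, tor R D c * y * (tor R D c)⁻¹ ∈ D.posUnipotent F := by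
    intro y hy
    have h1 : D.posUnipotent F = rootClosure D F (fun s => D.IsPosRoot s) := rfl
    rw [h1] at hy ⊢
    exact (Subgroup.mem_set_normalizer_iff.1 (tor_mem_normalizer_rootClosure hF
      (fun s hs => ((hF.isPos_iff).1 hs).1) c) y).1 hy
  have hU : D.posUnipotent F = rootClosure D F (fun s => D.IsPosRoot s) := rfl
  induction hu using Subgroup.closure_induction with
  | mem x hx =>
    obtain ⟨s, t, hs, hg⟩ := hx
    obtain ⟨hs1, hs2⟩ := (hF.isPos_iff).1 hs
    rw [hF.c.eq_xG hg, hF.tor_conj_xG c hs1, piE_xG hF hcor hs1 hs2, piE_xG hF hcor hs1 hs2]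
    by_cases h : s = D.simple i
    · rw [if_pos h, if_pos h, h]
    · rw [if_neg h, if_neg h, mul_zero]
  | one => simp [piE_one]
  | mul x y hx hy ihx ihy =>
    have e : tor R D c * (x * y) * (tor R D c)⁻¹ = (tor R D c * x * (tor R D c)⁻¹) * (tor R D c * y * (tor R D c)⁻¹) := by
      group
    rw [e, piE_mul hF (hnorm x hx) (hnorm y hy), piE_mul hF hx hy, ihx, ihy, mul_add]
  | inv x hx ih =>
    have e : tor R D c * x⁻¹ * (tor R D c)⁻¹ = (tor R D c * x * (tor R D c)⁻¹)⁻¹ := by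
      group
    rw [e, piE_inv hF (hnorm x hx), piE_inv hF hx, ih, mul_neg]

omit hF in
/-- Every element of a finite field is a difference of two squares. -/
theorem exists_sq_sub_sq [Finite F] (a : F) : ∃ b c : F, a = b ^ 2 - c ^ 2 := by
  by_cases h2 : (2 : F) = 0
  · haveI : CharP F 2 := CharTwo.of_one_ne_zero_of_two_eq_zero one_ne_zero h2
    obtain ⟨y, hy⟩ := Finite.surjective_of_injective (frobenius F 2).injective a
    rw [frobenius_def] at hy
    exact ⟨y, 0, by rw [← hy]; ring⟩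
  · refine ⟨(a + 1) / 2, (a - 1) / 2, ?_⟩
    field_simp
    ring

/-- The elimination step: an `H`-invariant subgroup of `U` meeting the `j`-th coordinate contains all the
`j`-th coordinate vectors. -/
theorem exists_single [Finite F] (hcor : ∀ i < D.rank, (D.coroot.getD (D.simple i) #[]).getD i 0 = 1)
    (hc2 : ∀ i < D.rank, D.cartan i (D.simple i) = 2)
    (hsep : ∀ i j : Fin D.rank, i ≠ j → ∃ c : Fin D.rank → Fˣ, chiT D c (D.simple i) = 1 ∧ chiT D c (D.simple j) ≠ 1)
    {Y : Subgroup (GL D.Idx F)} (hYU : Y ≤ D.posUnipotent F)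
    (hYH : ∀ (c : Fin D.rank → Fˣ), ∀ x ∈ Y, tor R D c * x * (tor R D c)⁻¹ ∈ Y)
    {j : Fin D.rank} {x : GL D.Idx F} (hx : x ∈ Y) (hj : piE hF j x ≠ 0) (t : F) :
    ∃ y ∈ Y, ∀ i, piE hF i y = if i = j then t else 0 := by
  classical
  have hconj : ∀ (c : Fin D.rank → Fˣ) {y : GL D.Idx F}, y ∈ Y → ∀ i,
      piE hF i (tor R D c * y * (tor R D c)⁻¹) = ((chiT D c (D.simple i) : Fˣ) : F) * piE hF i y :=
    fun c y hy i => piE_conj hF hcor c (hYU hy) i
  -- elimination
  have h1 : ∀ A : Finset (Fin D.rank), j ∉ A → ∃ y ∈ Y, piE hF j y ≠ 0 ∧ ∀ i ∈ A, piE hF i y = 0 := by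
    intro A
    induction A using Finset.induction_on with
    | empty =>
      intro _
      exact ⟨x, hx, hj, by simp⟩
    | insert k A hk ih =>
      intro hjA
      have hjk : j ≠ k := fun e => hjA (e ▸ Finset.mem_insert_self _ _)
      have hjA' : j ∉ A := fun e => hjA (Finset.mem_insert_of_mem e)
      obtain ⟨y, hy, hy1, hy2⟩ := ih hjA'
      obtain ⟨c, hc1, hc2'⟩ := hsep k j (Ne.symm hjk)
      refine ⟨(tor R D c * y * (tor R D c)⁻¹) * y⁻¹, Subgroup.mul_mem _ (hYH c y hy) (Subgroup.inv_mem _ hy), ?_, ?_⟩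
      · rw [piE_mul hF (hYU (hYH c y hy)) (hYU (Subgroup.inv_mem _ hy)), piE_inv hF (hYU hy), hconj c hy]
        have h3 : ((chiT D c (D.simple j) : Fˣ) : F) * piE hF j y + - piE hF j y =
            (((chiT D c (D.simple j) : Fˣ) : F) - 1) * piE hF j y := by ring
        rw [h3]
        apply mul_ne_zero _ hy1
        rw [sub_ne_zero]
        intro h4
        exact hc2' (Units.ext h4)
      · intro i hi
        rw [piE_mul hF (hYU (hYH c y hy)) (hYU (Subgroup.inv_mem _ hy)), piE_inv hF (hYU hy), hconj c hy]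
        rcases Finset.mem_insert.1 hi with rfl | hi
        · rw [hc1]
          simp
        · rw [hy2 i hi]
          simp
  obtain ⟨y, hy, hy1, hy2⟩ := h1 (Finset.univ.erase j) (by simp)
  have hy3 : ∀ i, i ≠ j → piE hF i y = 0 := fun i hi => hy2 i (by simp [hi])
  -- the squares
  set s := piE hF j y with hs
  have hsq : ∀ b : F, ∃ z ∈ Y, piE hF j z = b ^ 2 * s ∧ ∀ i, i ≠ j → piE hF i z = 0 := by
    intro b
    by_cases hb : b = 0
    · subst hb
      exact ⟨1, Subgroup.one_mem _, by simp [piE_one], fun i _ => piE_one hF i⟩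
    · let u : Fˣ := Units.mk0 b hb
      refine ⟨tor R D (Pi.mulSingle j u) * y * (tor R D (Pi.mulSingle j u))⁻¹, hYH _ y hy, ?_, ?_⟩
      · rw [hconj _ hy, hF.mulSingle_chiT, hc2 j j.2, Units.val_zpow_eq_zpow_val]
        show (b : F) ^ (2 : ℤ) * s = b ^ 2 * s
        rw [zpow_two, sq]
      · intro i hi
        rw [hconj _ hy, hy3 i hi, mul_zero]
  obtain ⟨b, c, hbc⟩ := exists_sq_sub_sq (t / s)
  obtain ⟨z1, hz1, hz11, hz12⟩ := hsq b
  obtain ⟨z2, hz2, hz21, hz22⟩ := hsq c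
  refine ⟨z1 * z2⁻¹, Subgroup.mul_mem _ hz1 (Subgroup.inv_mem _ hz2), ?_⟩
  intro i
  rw [piE_mul hF (hYU hz1) (hYU (Subgroup.inv_mem _ hz2)), piE_inv hF (hYU hz2)]
  by_cases hij : i = j
  · subst hij
    rw [if_pos rfl, hz11, hz21]
    have : t = (b ^ 2 - c ^ 2) * s := by
      rw [← hbc]
      field_simp
    rw [this]
    ring
  · rw [if_neg hij, hz12 i hij, hz22 i hij]
    simp

/-- `ordW` and the coordinates. -/
theorem piE_ordW (hcor : ∀ i < D.rank, (D.coroot.getD (D.simple i) #[]).getD i 0 = 1) (i : Fin D.rank) (τ : ℕ → F) :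
    ∀ (m k : ℕ), k + m = D.nroots → R.N ≤ k → piE hF i (hF.ordW k τ) = if k ≤ D.simple i then τ (D.simple i) else 0 := by
  intro m
  induction m with
  | zero =>
    intro k hk _
    rw [hF.ordW_of_ge (by omega), piE_one, if_neg]
    have := hF.simple_lt i.2
    omega
  | succ m ih =>
    intro k hk hN
    have hkn : k < D.nroots := by omega
    have hU : hF.ordW (k + 1) τ ∈ D.posUnipotent F := by
      rw [hF.U_eq_Uk]
      exact hF.Uk_anti (by omega) (hF.ordW_mem _ τ)
    rw [hF.ordW_succ hkn, piE_mul hF (hF.xG_mem_U hkn hN _) hU,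
      piE_xG hF hcor hkn hN, ih (k + 1) (by omega) (by omega)]
    by_cases h : k = D.simple i
    · subst h
      simp
    · rw [if_neg h, zero_add]
      by_cases h2 : k ≤ D.simple i
      · rw [if_pos h2, if_pos (by omega)]
      · rw [if_neg h2, if_neg (by omega)]

/-- An element of `U` with trivial coordinates is a product of non-simple root elements. -/
theorem mem_of_piE_eq_zero (hcor : ∀ i < D.rank, (D.coroot.getD (D.simple i) #[]).getD i 0 = 1)
    {C : Subgroup (GL D.Idx F)}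
    (hC : ∀ r, R.N ≤ r → r < D.nroots → (∀ i < D.rank, r ≠ D.simple i) → ∀ t : F, hF.c.xG r t ∈ C)
    {u : GL D.Idx F} (hu : u ∈ D.posUnipotent F) (h0 : ∀ i, piE hF i u = 0) : u ∈ C := by
  have hNn : R.N ≤ D.nroots := by
    have := hF.two
    omega
  rw [hF.U_eq_Uk] at hu
  obtain ⟨τ, rfl⟩ := hF.exists_ordW (D.nroots - R.N) R.N (by omega) le_rfl u hu
  have hτ : ∀ i : Fin D.rank, τ (D.simple i) = 0 := by
    intro i
    have := piE_ordW hF hcor i τ (D.nroots - R.N) R.N (by omega) le_rfl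
    rw [h0 i, if_pos (hF.simple_ge i.2)] at this
    exact this.symm
  have key : ∀ (m k : ℕ), k + m = D.nroots → R.N ≤ k → hF.ordW k τ ∈ C := by
    intro m
    induction m with
    | zero =>
      intro k hk _
      rw [hF.ordW_of_ge (by omega)]
      exact Subgroup.one_mem _
    | succ m ih =>
      intro k hk hN
      have hkn : k < D.nroots := by omega
      rw [hF.ordW_succ hkn]
      refine Subgroup.mul_mem _ ?_ (ih (k + 1) (by omega) (by omega))
      by_cases h : ∃ i < D.rank, k = D.simple i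
      · obtain ⟨i, hi, rfl⟩ := h
        rw [show τ (D.simple i) = 0 from hτ ⟨i, hi⟩]
        have : hF.c.xG (D.simple i) (0 : F) = 1 := by
          apply Units.ext
          simp
        rw [this]
        exact Subgroup.one_mem _
      · push Not at h
        exact hC k hN hkn h _
  exact key (D.nroots - R.N) R.N (by omega) le_rfl

omit hF in
/-- The Frattini argument for finite `p`-groups. -/
theorem eq_of_le_sup_commutator {G : Type*} [Group G] {p : ℕ} [Fact p.Prime] {U Y : Subgroup G} [Finite U]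
    (hp : IsPGroup p U) (hYU : Y ≤ U) (h : U ≤ Y ⊔ ⁅U, U⁆) : Y = U := by
  apply le_antisymm hYU
  by_contra hne
  have hY' : Y.subgroupOf U ≠ ⊤ := fun e => hne (Subgroup.subgroupOf_eq_top.1 e)
  obtain ⟨M, hM, hYM⟩ := (eq_top_or_exists_le_coatom (Y.subgroupOf U)).resolve_left hY'
  haveI : Group.IsNilpotent U := hp.isNilpotent
  have hMn : M.Normal := Subgroup.NormalizerCondition.normal_of_coatom M (Group.normalizerCondition_of_isNilpotent (G := U)) hM
  obtain ⟨x, hx⟩ : ∃ x : U, x ∉ M := by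
    by_contra hcon
    push Not at hcon
    exact hM.1 (eq_top_iff.2 fun a _ => hcon a)
  have hsup : M ⊔ Subgroup.zpowers x = ⊤ := by
    apply hM.2
    refine lt_of_le_of_ne le_sup_left ?_
    intro e
    exact hx (e ▸ Subgroup.mem_sup_right (Subgroup.mem_zpowers x))
  have hpow : ∀ a : U, ∃ k : ℤ, (a : U ⧸ M) = (x : U ⧸ M) ^ k := by
    intro a
    have ha : a ∈ M ⊔ Subgroup.zpowers x := by rw [hsup]; trivial
    obtain ⟨m, hm, y, hy, rfl⟩ := (GroupLem.mem_sup_iff_of_le_normalizer (U := M) (H := Subgroup.zpowers x)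
      (by rw [show Subgroup.normalizer (M : Set U) = ⊤ from Subgroup.normalizer_eq_top_iff.2 hMn]; exact le_top)).1 ha
    obtain ⟨k, rfl⟩ := Subgroup.mem_zpowers_iff.1 hy
    refine ⟨k, ?_⟩
    rw [QuotientGroup.mk_mul, (QuotientGroup.eq_one_iff m).2 hm, one_mul, QuotientGroup.mk_zpow]
  have hcomm : ∀ a b : U, ⁅a, b⁆ ∈ M := by
    intro a b
    rw [← QuotientGroup.eq_one_iff]
    obtain ⟨k, hk⟩ := hpow a
    obtain ⟨l, hl⟩ := hpow b
    rw [commutatorElement_def, QuotientGroup.mk_mul, QuotientGroup.mk_mul, QuotientGroup.mk_mul,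
      QuotientGroup.mk_inv, QuotientGroup.mk_inv, hk, hl, ← _root_.zpow_neg, ← _root_.zpow_neg, ← _root_.zpow_add, ← _root_.zpow_add, ← _root_.zpow_add]
    have : k + l + -k + -l = 0 := by ring
    rw [this, _root_.zpow_zero]
  have hle : Y ⊔ ⁅U, U⁆ ≤ M.map U.subtype := by
    apply sup_le
    · intro y hy
      exact ⟨⟨y, hYU hy⟩, hYM (Subgroup.mem_subgroupOf.2 hy), rfl⟩
    · rw [Subgroup.commutator_le]
      intro a ha b hb
      exact ⟨⁅(⟨a, ha⟩ : U), (⟨b, hb⟩ : U)⁆, hcomm _ _, rfl⟩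
  apply hx
  obtain ⟨x', hx', e⟩ := hle (h x.2)
  have : x' = x := Subtype.ext e
  rwa [this] at hx'

omit hF in
theorem mem_normalizer_of_map_eq {G : Type*} [Group G] {K : Subgroup G} {g : G}
    (h : K.map (MulAut.conj g).toMonoidHom = K) : g ∈ Subgroup.normalizer (K : Set G) := by
  rw [Subgroup.mem_set_normalizer_iff]
  intro y
  constructor
  · intro hy
    rw [SetLike.mem_coe] at hy ⊢
    rw [← h]
    exact ⟨y, hy, rfl⟩
  · intro hy
    rw [SetLike.mem_coe] at hy ⊢
    rw [← h] at hy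
    obtain ⟨x, hx, e⟩ := hy
    have e' : g * x * g⁻¹ = g * y * g⁻¹ := e
    have : x = y := by simpa using e'
    rwa [← this]

theorem piE_Up (hcor : ∀ i < D.rank, (D.coroot.getD (D.simple i) #[]).getD i 0 = 1)
    (j : Fin D.rank) {u : GL D.Idx F} (hu : u ∈ Up D F j) : piE hF j u = 0 := by
  rw [hF.Up_eq_closure] at hu
  have hle := hF.Up_le_U (F := F) j
  rw [hF.Up_eq_closure] at hle
  induction hu using Subgroup.closure_induction with
  | mem x hx =>
    obtain ⟨s, t, hs, hne, hg⟩ := hx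
    obtain ⟨hs1, hs2⟩ := (hF.isPos_iff).1 hs
    rw [hF.c.eq_xG hg, piE_xG hF hcor hs1 hs2, if_neg hne]
  | one => exact piE_one hF j
  | mul x y hx hy ihx ihy =>
    rw [piE_mul hF (hle hx) (hle hy), ihx, ihy, add_zero]
  | inv x hx ih =>
    rw [piE_inv hF (hle hx), ih, neg_zero]

theorem mem_Up_of_piE {j : Fin D.rank} (hcor : ∀ i < D.rank, (D.coroot.getD (D.simple i) #[]).getD i 0 = 1)
    {u : GL D.Idx F} (hu : u ∈ D.posUnipotent F) (h0 : piE hF j u = 0) : u ∈ Up D F j := by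
  obtain ⟨u', hu', t, rfl⟩ := hF.mem_U_iff j.2 hu
  have h1 := piE_mul hF (hF.Up_le_U j hu') (hF.xG_mem_U (hF.simple_lt j.2) (hF.simple_ge j.2) t) j
  rw [h0, piE_Up hF hcor j hu', zero_add, piE_xG hF hcor (hF.simple_lt j.2) (hF.simple_ge j.2), if_pos rfl] at h1
  rw [← h1]
  simpa using hu'

/-- The main theorem, given the facts on the torus and the commutator subgroup. -/
theorem main [Fintype F] (p : ℕ) [Fact p.Prime] [CharP F p]
    (hcor : ∀ i < D.rank, (D.coroot.getD (D.simple i) #[]).getD i 0 = 1)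
    (hc2 : ∀ i < D.rank, D.cartan i (D.simple i) = 2)
    (hsep : ∀ i j : Fin D.rank, i ≠ j → ∃ c : Fin D.rank → Fˣ, chiT D c (D.simple i) = 1 ∧ chiT D c (D.simple j) ≠ 1)
    (hcomm : ∀ r, R.N ≤ r → r < D.nroots → (∀ i < D.rank, r ≠ D.simple i) → ∀ t : F,
      hF.c.xG r t ∈ ⁅D.posUnipotent F, D.posUnipotent F⁆)
    (Y : Subgroup (GL D.Idx F)) (hYU : Y ≤ D.posUnipotent F)
    (hwc : ∀ g ∈ D.group F, Y.map (MulAut.conj g).toMonoidHom ≤ D.posUnipotent F → Y.map (MulAut.conj g).toMonoidHom = Y) :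
    ∃ J : Set ℕ, (∀ j ∈ J, j < D.rank) ∧ Y = D.unipotentRadical F J := by
  classical
  -- `B` normalises `Y`
  have hB : D.borelSubgroup F ≤ Subgroup.normalizer (Y : Set (GL D.Idx F)) := by
    intro b hb
    apply mem_normalizer_of_map_eq
    apply hwc b (hF.c.borel_le_group hb)
    rintro _ ⟨y, hy, rfl⟩
    have h1 := (Cfsg.Agent.Lib.ChevAut.mem_borel_iff_conj hF (⟨b⁻¹, Subgroup.inv_mem _ (hF.c.borel_le_group hb)⟩ : ↥(D.group F))).1
      (Subgroup.inv_mem _ hb) ⟨y, hF.c.posUnipotent_le_group (hYU hy)⟩ (hYU hy)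
    have e : ((⟨b⁻¹, Subgroup.inv_mem _ (hF.c.borel_le_group hb)⟩ : ↥(D.group F))⁻¹ * ⟨y, hF.c.posUnipotent_le_group (hYU hy)⟩ *
        ⟨b⁻¹, Subgroup.inv_mem _ (hF.c.borel_le_group hb)⟩ : ↥(D.group F)).1 = b * y * b⁻¹ := by
      show b⁻¹⁻¹ * y * b⁻¹ = _
      rw [inv_inv]
    rw [e] at h1
    exact h1
  let J : Set ℕ := {j | ∃ _ : j < D.rank, hF.nS (F := F) j ∈ Subgroup.normalizer (Y : Set (GL D.Idx F))}
  have hJ : ∀ j ∈ J, j < D.rank := fun j hj => hj.1
  refine ⟨J, hJ, ?_⟩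
  have hNJ : NJ hF F J ≤ Subgroup.normalizer (Y : Set (GL D.Idx F)) := by
    unfold NJ
    rw [Subgroup.closure_le]
    rintro g ⟨j, _, ⟨_, h⟩, rfl⟩
    exact h
  have hYJ : Y ≤ D.unipotentRadical F J := le_radical hF hYU J hNJ
  -- the coordinates
  have hnotJ : ∀ j : Fin D.rank, (j : ℕ) ∉ J → ∃ x ∈ Y, piE hF j x ≠ 0 := by
    intro j hj
    by_contra hcon
    push Not at hcon
    apply hj
    refine ⟨j.2, mem_normalizer_of_map_eq (hwc _ (hF.nS_mem_group j.2) ?_)⟩
    rintro _ ⟨y, hy, rfl⟩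
    exact hF.Up_le_U j (hF.nS_conj_Up j.2 (mem_Up_of_piE hF hcor (hYU hy) (hcon y hy)))
  have hYH : ∀ (c : Fin D.rank → Fˣ), ∀ x ∈ Y, tor R D c * x * (tor R D c)⁻¹ ∈ Y := by
    intro c x hx
    exact (Subgroup.mem_set_normalizer_iff.1 (hB (hF.c.diagonal_le_borel (hF.tor_mem_diagonal c))) x).1 hx
  have hLU : rootClosure D F (QL D J) ≤ D.posUnipotent F := by
    apply Subgroup.closure_mono
    rintro g ⟨r, t, hr, hg⟩
    exact ⟨r, t, hr.1, hg⟩
  have hUY : D.posUnipotent F ≤ Subgroup.normalizer (Y : Set (GL D.Idx F)) :=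
    (hF.c.posUnipotent_le_borel).trans hB
  -- `U = Y U_L`
  have hmain : Y ⊔ rootClosure D F (QL D J) = D.posUnipotent F := by
    refine eq_of_le_sup_commutator (p := p) (isPGroup_U' (F := F) hF p) (sup_le hYU hLU) ?_
    conv_lhs => unfold ChevalleyDatum.posUnipotent
    rw [Subgroup.closure_le]
    rintro g ⟨r, t, hr, hg⟩
    obtain ⟨hr1, hr2⟩ := (hF.isPos_iff).1 hr
    rw [SetLike.mem_coe, hF.c.eq_xG hg]
    by_cases hs : ∃ i < D.rank, r = D.simple i
    · obtain ⟨j, hj, rfl⟩ := hs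
      by_cases hjJ : j ∈ J
      · exact Subgroup.mem_sup_left (Subgroup.mem_sup_right (Subgroup.subset_closure
          ⟨_, t, ⟨hr, hF.simple_inRootSub hj hjJ⟩, rfl⟩))
      · obtain ⟨x, hx, hx0⟩ := hnotJ ⟨j, hj⟩ hjJ
        obtain ⟨y, hy, hy0⟩ := exists_single hF hcor hc2 hsep hYU hYH hx hx0 t
        have hz : (y⁻¹ * hF.c.xG (D.simple j) t) ∈ ⁅D.posUnipotent F, D.posUnipotent F⁆ := by
          apply mem_of_piE_eq_zero hF hcor hcomm
            (Subgroup.mul_mem _ (Subgroup.inv_mem _ (hYU hy)) (hF.xG_mem_U hr1 hr2 t))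
          intro i
          rw [piE_mul hF (Subgroup.inv_mem _ (hYU hy)) (hF.xG_mem_U hr1 hr2 t), piE_inv hF (hYU hy), hy0,
            piE_xG hF hcor hr1 hr2]
          by_cases hij : i = ⟨j, hj⟩
          · subst hij
            simp
          · have hne : D.simple j ≠ D.simple i := by
              intro e
              apply hij
              apply Fin.ext
              have h1 := hF.simple_rc hj i.2
              rw [e, hF.simple_rc i.2 i.2, if_pos rfl] at h1
              by_contra h2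
              rw [if_neg (fun h3 => h2 h3.symm)] at h1
              exact one_ne_zero h1
            rw [if_neg hij, if_neg hne]
            simp
        have e : hF.c.xG (D.simple j) t = y * (y⁻¹ * hF.c.xG (D.simple j) t) := by group
        rw [e]
        exact Subgroup.mul_mem _ (Subgroup.mem_sup_left (Subgroup.mem_sup_left hy)) (Subgroup.mem_sup_right hz)
    · push Not at hs
      exact Subgroup.mem_sup_right (hcomm r hr2 hr1 hs t)
  apply le_antisymm hYJ
  intro u hu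
  have hu' : u ∈ Y ⊔ rootClosure D F (QL D J) := by
    rw [hmain]
    exact hF.radical_le_U J hu
  obtain ⟨y, hy, l, hl, rfl⟩ := (GroupLem.mem_sup_iff_of_le_normalizer (hLU.trans hUY)).1 hu'
  have hl1 : l ∈ D.unipotentRadical F J := by
    have e : l = y⁻¹ * (y * l) := by group
    rw [e]
    exact Subgroup.mul_mem _ (Subgroup.inv_mem _ (hYJ hy)) hu
  have hl2 : l ∈ D.leviSubgroup F J := by
    refine Subgroup.mem_sup_right ?_
    refine Subgroup.closure_mono ?_ hl
    rintro g ⟨r, t, hr, hg⟩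
    exact ⟨r, t, hr.2, hg⟩
  have hl3 : l ∈ D.unipotentRadical F J ⊓ D.leviSubgroup F J := ⟨hl1, hl2⟩
  rw [hF.radical_inf_levi J, Subgroup.mem_bot] at hl3
  rw [hl3, mul_one]
  exact hy

end Cfsg.Agent.Lib.ChevAut.WClosed
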